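import Mathlib

/-!
# S3540 / S3577, HT-E D2: the combinatorial part (helper1)

A finite group `G` acts on an elementary abelian group `U` of order 16 with a system of subgroups `P t` of index two
(`t ≠ 1`, `t ∈ P t`).  `Cfg.false`: the numerical conditions of D2 are contradictory.
-/

set_option autoImplicit false

namespace Cfsg.Agent.H1.HT

open MulAction

universe u v

/-- counting modulo 3 -/
theorem mod3 {X : Type*} [Finite X] (f : X → X) (S : Set X) (hS : ∀ x ∈ S, f x ∈ S) {n : ℕ}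
    (hf : ∀ x ∈ S, f^[3 ^ n] x = x) : S.ncard ≡ {x | x ∈ S ∧ f x = x}.ncard [MOD 3] := by
  classical
  have : Fintype S := Fintype.ofFinite S
  let F : Function.End S := fun x => ⟨f x, hS x x.2⟩
  have hF : ∀ (k : ℕ) (x : S), ((F^[k] x : S) : X) = f^[k] x := by
    intro k
    induction k with
    | zero => intro x; rfl
    | succ k ih =>
      intro x
      rw [Function.iterate_succ_apply, Function.iterate_succ_apply, ih]
  have h1 : F ^ 3 ^ n = 1 := by
    funext x
    change F^[3 ^ n] x = x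
    exact Subtype.ext ((hF _ x).trans (hf x x.2))
  have : Fact (Nat.Prime 3) := ⟨Nat.prime_three⟩
  have h2 := Equiv.Perm.card_fixedPoints_modEq h1
  rw [← Nat.card_eq_fintype_card, ← Nat.card_eq_fintype_card] at h2
  have h3 : Nat.card S = S.ncard := rfl
  have h4 : Nat.card (Function.fixedPoints F) = {x | x ∈ S ∧ f x = x}.ncard := by
    refine Nat.card_congr ?_
    exact
      { toFun := fun x => ⟨x.1.1, x.1.2, congrArg Subtype.val x.2⟩
        invFun := fun x => ⟨⟨x.1, x.2.1⟩, Subtype.ext x.2.2⟩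
        left_inv := fun x => rfl
        right_inv := fun x => rfl }
  rwa [h3, h4] at h2

variable {G : Type u} {U : Type v} [Group G] [Group U] [MulDistribMulAction G U]

/-- the elements fixing `t` and acting trivially on `P t / t` -/
def Kt (P : U → Subgroup U) (t : U) (ht : t * t = 1) : Subgroup G where
  carrier := {g | g • t = t ∧ ∀ x ∈ P t, g • x = x ∨ g • x = x * t}
  one_mem' := ⟨one_smul G t, fun x _ => Or.inl (one_smul G x)⟩
  mul_mem' := by
    rintro a b ⟨ha, ha'⟩ ⟨hb, hb'⟩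
    refine ⟨by rw [mul_smul, hb, ha], fun x hx => ?_⟩
    rw [mul_smul]
    rcases hb' x hx with h | h
    · rw [h]; exact ha' x hx
    · rw [h, smul_mul', ha]
      rcases ha' x hx with h' | h'
      · rw [h']; exact Or.inr rfl
      · rw [h', mul_assoc, ht, mul_one]; exact Or.inl rfl
  inv_mem' := by
    rintro a ⟨ha, ha'⟩
    refine ⟨by rw [inv_smul_eq_iff, ha], fun x hx => ?_⟩
    rcases ha' x hx with h | h
    · left; rw [inv_smul_eq_iff, h]
    · right; rw [inv_smul_eq_iff, smul_mul', ha, h, mul_assoc, ht, mul_one]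

/-- the data -/
structure Cfg (P : U → Subgroup U) (N : Subgroup G) (M : U → Subgroup G) : Prop where
  cardU : Nat.card U = 16
  sq : ∀ x : U, x * x = 1
  memP : ∀ t : U, t ≠ 1 → t ∈ P t
  idx : ∀ t : U, t ≠ 1 → (P t).index = 2
  mapP : ∀ (g : G) (t x : U), t ≠ 1 → x ∈ P t → g • x ∈ P (g • t)
  le : ∀ t : U, t ≠ 1 → N ≤ M t
  ker : ∀ t : U, t ≠ 1 → ∀ g ∈ M t, (∀ x : U, g • x = x) → g ∈ N
  act : ∀ t : U, t ≠ 1 → ∀ g ∈ M t, g • t = t ∧ ∀ x ∈ P t, g • x = x ∨ g • x = x * t
  card : (∀ t : U, t ≠ 1 → Nat.card G = 20 * Nat.card (M t)) ∨ (∀ t : U, t ≠ 1 → Nat.card G = 60 * Nat.card (M t))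
  three : ¬ 3 ∣ Nat.card N
  norm : ∀ t : U, t ≠ 1 → ∀ g : G, g • t = t → (∃ n, g ^ 3 ^ n = 1) → ∀ x ∈ M t, g * x * g⁻¹ ∈ M t
  six : ∀ t : U, t ≠ 1 → Nat.card {g : G // g • t = t} =
    6 * Nat.card {g : G // g • t = t ∧ ∀ x ∈ P t, g • x = x ∨ g • x = x * t}

namespace Cfg

set_option linter.unusedSectionVars false
set_option linter.unusedVariables false

variable {P : U → Subgroup U} {N : Subgroup G} {M : U → Subgroup G}

theorem comm (H : Cfg P N M) (x y : U) : x * y = y * x := by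
  have h1 : (x * y) * (x * y) = 1 := H.sq _
  have hx : x⁻¹ = x := inv_eq_of_mul_eq_one_right (H.sq x)
  have hy : y⁻¹ = y := inv_eq_of_mul_eq_one_right (H.sq y)
  have h2 : x * y = (x * y)⁻¹ := (inv_eq_of_mul_eq_one_right h1).symm
  rw [h2, mul_inv_rev, hx, hy]

theorem finU (H : Cfg P N M) : Finite U := Nat.finite_of_card_ne_zero (by rw [H.cardU]; norm_num)

theorem cardP (H : Cfg P N M) {t : U} (ht : t ≠ 1) : Nat.card (P t) = 8 := by
  have h1 := Subgroup.card_mul_index (P t)
  rw [H.idx t ht, H.cardU] at h1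
  omega

theorem smul_mem (H : Cfg P N M) {t : U} (ht : t ≠ 1) {g : G} (hg : g • t = t) {x : U} (hx : x ∈ P t) :
    g • x ∈ P t := by
  have := H.mapP g t x ht hx
  rwa [hg] at this

theorem smul_mem_iff (H : Cfg P N M) {t : U} (ht : t ≠ 1) {g : G} (hg : g • t = t) {x : U} :
    g • x ∈ P t ↔ x ∈ P t := by
  refine ⟨fun h => ?_, H.smul_mem ht hg⟩
  have := H.smul_mem ht (g := g⁻¹) (by rw [inv_smul_eq_iff, hg]) h
  rwa [inv_smul_smul] at this

theorem smul_ne_one {g : G} {x : U} (hx : x ≠ 1) : g • x ≠ 1 := by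
  intro h
  apply hx
  rw [← inv_smul_smul g x, h, smul_one]

theorem iter (g : G) (k : ℕ) (x : U) : (fun y => g • y)^[k] x = g ^ k • x := by
  induction k generalizing x with
  | zero => rw [pow_zero, one_smul]; rfl
  | succ k ih => rw [Function.iterate_succ_apply, ih, pow_succ, mul_smul]

/-- counting modulo 3 for an element of 3-power order -/
theorem mod3' [Finite U] {g : G} (hg : ∃ n, g ^ 3 ^ n = 1) (S : Set U) (hS : ∀ x ∈ S, g • x ∈ S) :
    S.ncard ≡ {x | x ∈ S ∧ g • x = x}.ncard [MOD 3] := by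
  obtain ⟨n, hn⟩ := hg
  exact mod3 (fun y => g • y) S hS (n := n) fun x _ => by rw [iter, hn, one_smul]

/-- `Y`: the elements of `P t` fixed by `g` modulo `t` -/
def Y (P : U → Subgroup U) (t : U) (ht : t * t = 1) (hc : ∀ x y : U, x * y = y * x) (g : G) (hg : g • t = t) :
    Subgroup U where
  carrier := {x | x ∈ P t ∧ (g • x = x ∨ g • x = x * t)}
  one_mem' := ⟨(P t).one_mem, Or.inl (smul_one g)⟩
  mul_mem' := by
    rintro a b ⟨ha, ha'⟩ ⟨hb, hb'⟩
    refine ⟨(P t).mul_mem ha hb, ?_⟩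
    rw [smul_mul']
    rcases ha' with h | h <;> rcases hb' with h' | h' <;> rw [h, h']
    · exact Or.inl rfl
    · exact Or.inr (mul_assoc _ _ _).symm
    · right
      rw [mul_assoc, hc t b, ← mul_assoc]
    · left
      rw [mul_assoc, ← mul_assoc t b t, hc t b, mul_assoc b, ht, mul_one]
  inv_mem' := by
    rintro a ⟨ha, ha'⟩
    refine ⟨(P t).inv_mem ha, ?_⟩
    rw [smul_inv']
    rcases ha' with h | h <;> rw [h]
    · exact Or.inl rfl
    · right
      rw [mul_inv_rev, inv_eq_of_mul_eq_one_right ht, hc]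

variable [Finite G]

/-- the element of order a power of 3 -/
theorem exists_three (H : Cfg P N M) {t : U} (ht : t ≠ 1) :
    ∃ g : G, g • t = t ∧ (∃ n, g ^ 3 ^ n = 1) ∧ ∀ x ∈ P t, (g • x = x ∨ g • x = x * t) → x = 1 ∨ x = t := by
  classical
  have := H.finU
  have : Fact (Nat.Prime 3) := ⟨Nat.prime_three⟩
  set K : Subgroup G := Kt P t (H.sq t) with hK
  have hL : Nat.card (stabilizer G t) = 6 * Nat.card K := H.six t ht
  have hKL : K ≤ stabilizer G t := fun g hg => hg.1
  -- a 3-element outside `K`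
  obtain ⟨g, hgL, hgK, hg3⟩ : ∃ g : G, g • t = t ∧ g ∉ K ∧ ∃ n, g ^ 3 ^ n = 1 := by
    obtain ⟨S⟩ : Nonempty (Sylow 3 (stabilizer G t)) := inferInstance
    by_contra hcon
    push Not at hcon
    have h1 : ∀ x : (S : Subgroup (stabilizer G t)), ((x : stabilizer G t) : G) ∈ K := by
      intro x
      by_contra hx
      obtain ⟨n, hn⟩ := S.isPGroup' x
      refine hcon ((x : stabilizer G t) : G) (x : stabilizer G t).2 hx n ?_
      have h2 := congrArg (fun y : (S : Subgroup (stabilizer G t)) => ((y : stabilizer G t) : G)) hn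
      simpa using h2
    have h2 : Nat.card (S : Subgroup (stabilizer G t)) ∣ Nat.card K := by
      have h3 : (S : Subgroup (stabilizer G t)).map (stabilizer G t).subtype ≤ K := by
        rintro _ ⟨x, hx, rfl⟩
        exact h1 ⟨x, hx⟩
      have h4 := Subgroup.card_dvd_of_le h3
      rwa [Nat.card_congr ((S : Subgroup (stabilizer G t)).equivMapOfInjective _
        (stabilizer G t).subtype_injective).symm.toEquiv] at h4
    rw [Sylow.card_eq_multiplicity, hL, Nat.factorization_mul (by norm_num) Nat.card_pos.ne', Finsupp.add_apply,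
      pow_add] at h2
    have h5 : (6 : ℕ).factorization 3 = 1 := by
      rw [show (6 : ℕ) = 2 * 3 by norm_num, Nat.factorization_mul (by norm_num) (by norm_num),
        Finsupp.add_apply, Nat.Prime.factorization_self Nat.prime_three,
        Nat.factorization_eq_zero_of_not_dvd (by norm_num)]
    rw [h5, pow_one] at h2
    have h6 : 3 ^ ((Nat.card K).factorization 3 + 1) ∣ Nat.card K := by
      rw [pow_succ, mul_comm]; exact h2
    exact Nat.pow_succ_factorization_not_dvd Nat.card_pos.ne' Nat.prime_three h6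
  refine ⟨g, hgL, hg3, ?_⟩
  set Z := Y P t (H.sq t) H.comm g hgL with hZ
  have hZP : Z ≤ P t := fun x hx => hx.1
  have hcP := H.cardP ht
  have hdvd : Nat.card Z ∣ 8 := hcP ▸ Subgroup.card_dvd_of_le hZP
  -- `P t ∖ Y`
  have h1 := mod3' hg3 ((P t : Set U) \ (Z : Set U)) (by
    rintro x ⟨hx, hx'⟩
    refine ⟨H.smul_mem ht hgL hx, fun h => hx' ⟨hx, ?_⟩⟩
    rcases h.2 with h2 | h2
    · left
      exact smul_left_cancel g h2
    · right
      apply smul_left_cancel g
      rw [h2, smul_mul', hgL])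
  have h2 : {x | x ∈ (P t : Set U) \ (Z : Set U) ∧ g • x = x} = ∅ := by
    ext x
    simp only [Set.mem_ofPred_eq, Set.mem_empty_iff_false, iff_false, not_and]
    rintro ⟨hx, hx'⟩ h
    exact hx' ⟨hx, Or.inl h⟩
  have h3 : ((P t : Set U) \ (Z : Set U)).ncard + Nat.card Z = 8 := by
    have h4 := Set.ncard_sdiff_add_ncard_of_subset (s := (Z : Set U)) (t := (P t : Set U)) hZP
    have h5 : (Z : Set U).ncard = Nat.card Z := rfl
    have h6 : (P t : Set U).ncard = Nat.card (P t) := rfl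
    omega
  rw [h2, Set.ncard_empty] at h1
  have h4 : ((P t : Set U) \ (Z : Set U)).ncard % 3 = 0 := h1
  -- `Y = {1, t}`
  have h5 : Nat.card Z ∈ Nat.divisors 8 := Nat.mem_divisors.2 ⟨hdvd, by norm_num⟩
  have h6 : Nat.divisors 8 = {1, 2, 4, 8} := by decide
  rw [h6] at h5
  simp only [Finset.mem_insert, Finset.mem_singleton] at h5
  have htZ : t ∈ Z := ⟨H.memP t ht, Or.inl hgL⟩
  have h7 : ({1, t} : Set U) ⊆ (Z : Set U) := by
    rintro x (rfl | rfl)
    · exact Z.one_mem
    · exact htZ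
  have h8 : ({1, t} : Set U).ncard = 2 := Set.ncard_pair ht.symm
  have h9 : Nat.card Z ≠ 8 := by
    intro h9
    have h10 : Z = P t := by
      apply SetLike.coe_injective
      exact Set.eq_of_subset_of_ncard_le hZP (by
        change Nat.card (P t) ≤ Nat.card Z
        omega)
    apply hgK
    refine ⟨hgL, fun x hx => ?_⟩
    rw [← h10] at hx
    exact hx.2
  have h10 : Nat.card Z = 2 := by
    have h11 : 2 ≤ Nat.card Z := by
      rw [← h8]
      exact Set.ncard_le_ncard h7 (Set.toFinite _)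
    omega
  have h11 : ({1, t} : Set U) = (Z : Set U) := by
    apply Set.eq_of_subset_of_ncard_le h7
    rw [h8]
    exact h10.le
  intro x hx hx'
  have h12 : x ∈ (Z : Set U) := ⟨hx, hx'⟩
  rw [← h11] at h12
  exact h12

/-- the fixed points of `g` outside `P t` -/
theorem fix_out (H : Cfg P N M) {t : U} (ht : t ≠ 1) {g : G}
    (hg : ∀ x ∈ P t, (g • x = x ∨ g • x = x * t) → x = 1 ∨ x = t) {x y : U} (hx : x ∉ P t) (hy : y ∉ P t)
    (hgx : g • x = x) (hgy : g • y = y) : y = x ∨ y = x * t := by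
  have h1 : x * y ∈ P t := (Subgroup.mul_mem_iff_of_index_two (H.idx t ht)).2 ⟨fun h => absurd h hx, fun h => absurd h hy⟩
  rcases hg _ h1 (Or.inl (by rw [smul_mul', hgx, hgy])) with h | h
  · left
    have := congrArg (x * ·) h
    simp only [← mul_assoc, H.sq, one_mul, mul_one] at this
    exact this
  · right
    have := congrArg (x * ·) h
    simp only [← mul_assoc, H.sq, one_mul] at this
    exact this

/-- at most three fixed points -/
theorem fix_le (H : Cfg P N M) {t : U} (ht : t ≠ 1) {g : G}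
    (hg : ∀ x ∈ P t, (g • x = x ∨ g • x = x * t) → x = 1 ∨ x = t) :
    {x : U | x ≠ 1 ∧ g • x = x}.ncard ≤ 3 := by
  classical
  have := H.finU
  by_cases hex : ∃ x : U, x ∉ P t ∧ g • x = x
  · obtain ⟨x, hx, hgx⟩ := hex
    have h1 : {x : U | x ≠ 1 ∧ g • x = x} ⊆ {t, x, x * t} := by
      rintro y ⟨hy1, hy⟩
      by_cases hyP : y ∈ P t
      · rcases hg y hyP (Or.inl hy) with h | h
        · exact absurd h hy1
        · exact Or.inl h
      · rcases H.fix_out ht hg hx hyP hgx hy with h | h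
        · exact Or.inr (Or.inl h)
        · exact Or.inr (Or.inr h)
    refine (Set.ncard_le_ncard h1 (Set.toFinite _)).trans ?_
    refine (Set.ncard_insert_le _ _).trans ?_
    have := Set.ncard_insert_le x ({x * t} : Set U)
    rw [Set.ncard_singleton] at this
    omega
  · push Not at hex
    have h1 : {x : U | x ≠ 1 ∧ g • x = x} ⊆ {t} := by
      rintro y ⟨hy1, hy⟩
      by_cases hyP : y ∈ P t
      · rcases hg y hyP (Or.inl hy) with h | h
        · exact absurd h hy1
        · exact h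
      · exact absurd hy (hex y hyP)
    refine (Set.ncard_le_ncard h1 (Set.toFinite _)).trans ?_
    rw [Set.ncard_singleton]
    norm_num

/-- orbit lengths -/
theorem orb (H : Cfg P N M) {t : U} (ht : t ≠ 1) :
    ∃ c : ℕ, (orbit G t).ncard * c = 10 ∧ Nat.card (Kt (G := G) P t (H.sq t)) = c * Nat.card (M t) := by
  have h1 := Subgroup.index_mul_card (stabilizer G t)
  rw [index_stabilizer] at h1
  have hL : Nat.card (stabilizer G t) = 6 * Nat.card (Kt (G := G) P t (H.sq t)) := H.six t ht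
  have hMK : M t ≤ Kt P t (H.sq t) := fun g hg => H.act t ht g hg
  obtain ⟨c, hc⟩ := Subgroup.card_dvd_of_le hMK
  have hM : 0 < Nat.card (M t) := Nat.card_pos
  refine ⟨c, ?_, by rw [hc, mul_comm]⟩
  rw [hL, hc] at h1
  rcases H.card with h2 | h2
  · rw [h2 t ht] at h1
    have h3 : ((orbit G t).ncard * c * 6) * Nat.card (M t) = 20 * Nat.card (M t) := by rw [← h1]; ring
    have := Nat.eq_of_mul_eq_mul_right hM h3
    omega
  · rw [h2 t ht] at h1
    have h3 : ((orbit G t).ncard * c * 6) * Nat.card (M t) = 60 * Nat.card (M t) := by rw [← h1]; ring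
    have := Nat.eq_of_mul_eq_mul_right hM h3
    omega

/-- the fixed points in an orbit -/
theorem orb_mod (H : Cfg P N M) {g : G} (hg : ∃ n, g ^ 3 ^ n = 1) (x : U) :
    (orbit G x).ncard ≡ {y | y ∈ orbit G x ∧ g • y = y}.ncard [MOD 3] := by
  have := H.finU
  exact mod3' hg (orbit G x) fun y hy => mem_orbit_of_mem_orbit g hy

theorem orb_ne_one {x y : U} (hx : x ≠ 1) (hy : y ∈ orbit G x) : y ≠ 1 := by
  obtain ⟨g, rfl⟩ := hy
  exact smul_ne_one hx

/-- an orbit containing a moved point -/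
theorem orb_moved (H : Cfg P N M) {g : G} (hg3 : ∃ n, g ^ 3 ^ n = 1) {x : U} (hx : x ≠ 1) (hgx : g • x ≠ x) :
    (orbit G x).ncard = 5 ∨ (orbit G x).ncard = 10 := by
  have := H.finU
  obtain ⟨c, hc, -⟩ := H.orb hx
  have h1 := H.orb_mod hg3 x
  have h2 : {y | y ∈ orbit G x ∧ g • y = y}.ncard < (orbit G x).ncard := by
    apply Set.ncard_lt_ncard _ (Set.toFinite _)
    refine ⟨fun y hy => hy.1, fun h => hgx (h (mem_orbit_self x)).2⟩
  have h3 : (orbit G x).ncard ∈ Nat.divisors 10 := Nat.mem_divisors.2 ⟨⟨c, hc.symm⟩, by norm_num⟩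
  have h4 : Nat.divisors 10 = {1, 2, 5, 10} := by decide
  rw [h4] at h3
  simp only [Finset.mem_insert, Finset.mem_singleton] at h3
  rcases h3 with h | h | h | h
  · rw [h] at h1 h2
    have h5 : 1 % 3 = {y | y ∈ orbit G x ∧ g • y = y}.ncard % 3 := h1
    omega
  · rw [h] at h1 h2
    have h5 : 2 % 3 = {y | y ∈ orbit G x ∧ g • y = y}.ncard % 3 := h1
    omega
  · exact Or.inl h
  · exact Or.inr h

/-- choosing a moved point -/
theorem exists_moved (H : Cfg P N M) {g : G} (S : Set U) (hS : S.ncard < 15)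
    (hF : ({x : U | x ≠ 1 ∧ g • x = x} \ S).ncard + S.ncard < 15) :
    ∃ x : U, x ≠ 1 ∧ x ∉ S ∧ g • x ≠ x := by
  have := H.finU
  by_contra hcon
  push Not at hcon
  have h1 : (Set.univ : Set U) ⊆ {1} ∪ (({x : U | x ≠ 1 ∧ g • x = x} \ S) ∪ S) := by
    intro x _
    by_cases hx : x = 1
    · exact Or.inl hx
    · by_cases hxS : x ∈ S
      · exact Or.inr (Or.inr hxS)
      · exact Or.inr (Or.inl ⟨⟨hx, hcon x hx hxS⟩, hxS⟩)
  have h2 := Set.ncard_le_ncard h1 (Set.toFinite _)
  rw [Set.ncard_univ, H.cardU] at h2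
  have h3 := Set.ncard_union_le ({1} : Set U) (({x : U | x ≠ 1 ∧ g • x = x} \ S) ∪ S)
  have h4 := Set.ncard_union_le ({x : U | x ≠ 1 ∧ g • x = x} \ S) S
  rw [Set.ncard_singleton] at h3
  omega

/-- the fixed points split -/
theorem fix_split (H : Cfg P N M) (g : G) {x : U} (hx : x ≠ 1) :
    ({y : U | y ≠ 1 ∧ g • y = y} \ orbit G x).ncard + {y | y ∈ orbit G x ∧ g • y = y}.ncard =
      {y : U | y ≠ 1 ∧ g • y = y}.ncard := by
  have := H.finU
  have h1 : {y | y ∈ orbit G x ∧ g • y = y} = {y : U | y ≠ 1 ∧ g • y = y} ∩ orbit G x := by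
    ext y
    constructor
    · rintro ⟨h1, h2⟩
      exact ⟨⟨orb_ne_one hx h1, h2⟩, h1⟩
    · rintro ⟨⟨_, h2⟩, h1⟩
      exact ⟨h1, h2⟩
  rw [h1, add_comm]
  exact Set.ncard_inter_add_ncard_sdiff_eq_ncard _ _ (Set.toFinite _)

/-- there are orbits of lengths 5 and 10 -/
theorem orbits (H : Cfg P N M) : (∃ t : U, t ≠ 1 ∧ (orbit G t).ncard = 5) ∧ ∃ t : U, t ≠ 1 ∧ (orbit G t).ncard = 10 := by
  classical
  have := H.finU
  obtain ⟨t, ht⟩ : ∃ t : U, t ≠ 1 := by
    have : Nontrivial U := Finite.one_lt_card_iff_nontrivial.1 (by rw [H.cardU]; norm_num)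
    exact exists_ne 1
  obtain ⟨g, -, hg3, hg⟩ := H.exists_three ht
  have hF := H.fix_le ht hg
  obtain ⟨x, hx, -, hgx⟩ := H.exists_moved (g := g) ∅ (by simp) (by
    rw [Set.sdiff_empty, Set.ncard_empty]; omega)
  have hdisj : ∀ y : U, y ∉ orbit G x → Disjoint (orbit G x) (orbit G y) := by
    intro y hy
    rcases orbit.eq_or_disjoint (G := G) x y with h | h
    · exact absurd (h ▸ mem_orbit_self y) hy
    · exact h
  have hm := H.orb_mod hg3 x
  have hs := H.fix_split g hx
  have hfin : ∀ y : U, y ≠ 1 → y ∉ orbit G x → (orbit G x).ncard + (orbit G y).ncard ≤ 15 := by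
    intro y hy1 hy
    rw [← Set.ncard_union_eq (hdisj y hy) (Set.toFinite _) (Set.toFinite _)]
    have h1 : orbit G x ∪ orbit G y ⊆ (Set.univ : Set U) \ {1} := by
      rintro z (hz | hz)
      · exact ⟨trivial, orb_ne_one hx hz⟩
      · exact ⟨trivial, orb_ne_one hy1 hz⟩
    refine (Set.ncard_le_ncard h1 (Set.toFinite _)).trans ?_
    rw [Set.ncard_sdiff_singleton_of_mem (Set.mem_univ _), Set.ncard_univ, H.cardU]
  rcases H.orb_moved hg3 hx hgx with h5 | h10
  · refine ⟨⟨x, hx, h5⟩, ?_⟩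
    rw [h5] at hm
    have hm' : 5 % 3 = {y | y ∈ orbit G x ∧ g • y = y}.ncard % 3 := hm
    obtain ⟨y, hy, hyx, hgy⟩ := H.exists_moved (g := g) (orbit G x) (by omega) (by omega)
    rcases H.orb_moved hg3 hy hgy with h5' | h10'
    · exfalso
      have hm2 := H.orb_mod hg3 y
      rw [h5'] at hm2
      have hm2' : 5 % 3 = {z | z ∈ orbit G y ∧ g • z = z}.ncard % 3 := hm2
      have h1 : {z | z ∈ orbit G y ∧ g • z = z} ⊆ {z : U | z ≠ 1 ∧ g • z = z} \ orbit G x := by
        rintro z ⟨hz, hgz⟩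
        exact ⟨⟨orb_ne_one hy hz, hgz⟩, fun h => Set.disjoint_left.1 (hdisj y hyx) h hz⟩
      have h2 := Set.ncard_le_ncard h1 (Set.toFinite _)
      omega
    · exact ⟨y, hy, h10'⟩
  · refine ⟨?_, ⟨x, hx, h10⟩⟩
    rw [h10] at hm
    have hm' : 10 % 3 = {y | y ∈ orbit G x ∧ g • y = y}.ncard % 3 := hm
    obtain ⟨y, hy, hyx, hgy⟩ := H.exists_moved (g := g) (orbit G x) (by omega) (by omega)
    rcases H.orb_moved hg3 hy hgy with h5' | h10'
    · exact ⟨y, hy, h5'⟩
    · have := hfin y hy hyx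
      omega

/-- the kernel of the action is `N` -/
theorem ker' (H : Cfg P N M) (g : G) (hg : ∀ x : U, g • x = x) : g ∈ N := by
  obtain ⟨-, t, ht, h10⟩ := H.orbits
  obtain ⟨c, hc, hK⟩ := H.orb ht
  rw [h10] at hc
  have hc1 : c = 1 := by omega
  rw [hc1, one_mul] at hK
  have hMK : M t ≤ Kt P t (H.sq t) := fun g hg => H.act t ht g hg
  have h1 : M t = Kt P t (H.sq t) := Subgroup.eq_of_le_of_card_ge hMK hK.le
  refine H.ker t ht g ?_ hg
  rw [h1]
  exact ⟨hg t, fun x _ => Or.inl (hg x)⟩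

/-- elements of order 3 in `Kt` act trivially -/
theorem three_triv (H : Cfg P N M) {t : U} (ht : t ≠ 1) {k : G} (hk : k ∈ Kt P t (H.sq t)) (h3 : k ^ 3 = 1) (x : U) :
    k • x = x := by
  have hP : ∀ x ∈ P t, k • x = x := by
    intro x hx
    rcases hk.2 x hx with h | h
    · exact h
    · have h1 : k • k • k • x = x := by
        rw [← mul_smul, ← mul_smul, ← pow_two, ← pow_succ, h3, one_smul]
      rw [h, smul_mul', hk.1, h, mul_assoc, H.sq, mul_one] at h1
      exact h1
  by_cases hx : x ∈ P t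
  · exact hP x hx
  · have hkx : k • x ∉ P t := fun h => hx ((H.smul_mem_iff ht hk.1).1 h)
    have h1 : x * k • x ∈ P t :=
      (Subgroup.mul_mem_iff_of_index_two (H.idx t ht)).2 ⟨fun h => absurd h hx, fun h => absurd h hkx⟩
    have h2 : k • x = x * (x * k • x) := by rw [← mul_assoc, H.sq, one_mul]
    have h3' : k • (x * k • x) = x * k • x := hP _ h1
    have h4 : k • k • x = x := by
      rw [h2, smul_mul', h3', h2, mul_assoc, ← h2, H.sq, mul_one]
    have h5 : k • k • k • x = x := by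
      rw [← mul_smul, ← mul_smul, ← pow_two, ← pow_succ, h3, one_smul]
    rw [h4] at h5
    exact h5

theorem not_three (H : Cfg P N M) {t : U} (ht : t ≠ 1) : ¬ 3 ∣ Nat.card (M t) := by
  intro h
  have : Fact (Nat.Prime 3) := ⟨Nat.prime_three⟩
  obtain ⟨r, hr⟩ := exists_prime_orderOf_dvd_card' 3 h
  have hr3 : (r : G) ^ 3 = 1 := by
    rw [← hr, ← Subgroup.orderOf_coe]
    exact pow_orderOf_eq_one _
  have h1 : (r : G) ∈ N := H.ker t ht r r.2 (H.three_triv ht (H.act t ht r r.2) hr3)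
  apply H.three
  have h2 : orderOf (⟨(r : G), h1⟩ : N) = 3 := by
    rw [← Subgroup.orderOf_coe]
    exact (Subgroup.orderOf_coe r).trans hr
  rw [← h2]
  exact orderOf_dvd_natCard _

theorem false (H : Cfg P N M) : False := by
  classical
  have := H.finU
  obtain ⟨⟨t, ht, h5⟩, -⟩ := H.orbits
  obtain ⟨c, hc, hK⟩ := H.orb ht
  rw [h5] at hc
  have hc2 : c = 2 := by omega
  rw [hc2] at hK
  obtain ⟨g, hgt, hg3, hg⟩ := H.exists_three ht
  have hMK : M t ≤ Kt P t (H.sq t) := fun g hg => H.act t ht g hg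
  have htt := H.sq t
  -- an element of `Kt ∖ M` commuting with `g`
  obtain ⟨k, hkK, hkM, hkg⟩ : ∃ k, k ∈ Kt P t (H.sq t) ∧ k ∉ M t ∧ g * k * g⁻¹ = k := by
    obtain ⟨n, hn⟩ := hg3
    have hgK : ∀ x ∈ Kt P t (H.sq t), g * x * g⁻¹ ∈ Kt P t (H.sq t) := by
      rintro x ⟨hx1, hx2⟩
      have hgt' : g⁻¹ • t = t := by rw [inv_smul_eq_iff, hgt]
      refine ⟨by rw [mul_smul, mul_smul, hgt', hx1, hgt], fun y hy => ?_⟩
      rw [mul_smul, mul_smul]
      rcases hx2 (g⁻¹ • y) (H.smul_mem ht hgt' hy) with h | h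
      · left; rw [h, smul_inv_smul]
      · right; rw [h, smul_mul', smul_inv_smul, hgt]
    have hginvM : ∀ x, g * x * g⁻¹ ∈ M t → x ∈ M t := by
      -- iterate
      have hpow : ∀ (j : ℕ) (x : G), x ∈ M t → g ^ j * x * (g ^ j)⁻¹ ∈ M t := by
        intro j
        induction j with
        | zero => intro x hx; simpa using hx
        | succ j ih =>
          intro x hx
          have := H.norm t ht g hgt ⟨n, hn⟩ _ (ih x hx)
          rw [pow_succ']
          simpa [mul_assoc] using this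
      intro x hx
      have h1 := hpow (3 ^ n - 1) _ hx
      have h2 : g ^ (3 ^ n - 1) * g = 1 := by
        rw [← pow_succ, Nat.sub_add_cancel (Nat.one_le_pow _ _ (by norm_num)), hn]
      have h3 : g ^ (3 ^ n - 1) * (g * x * g⁻¹) * (g ^ (3 ^ n - 1))⁻¹ = x := by
        have h4 : g ^ (3 ^ n - 1) * (g * x * g⁻¹) * (g ^ (3 ^ n - 1))⁻¹ =
          (g ^ (3 ^ n - 1) * g) * x * (g ^ (3 ^ n - 1) * g)⁻¹ := by group
        rw [h4, h2, one_mul, inv_one, mul_one]
      rwa [h3] at h1
    have hit : ∀ (j : ℕ) (x : G), (fun y => g * y * g⁻¹)^[j] x = g ^ j * x * (g ^ j)⁻¹ := by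
      intro j
      induction j with
      | zero => intro x; simp
      | succ j ih =>
        intro x
        rw [Function.iterate_succ_apply, ih, pow_succ]
        simp only [mul_inv_rev, mul_assoc]
    have h1 := mod3 (fun y => g * y * g⁻¹) (((Kt P t (H.sq t) : Subgroup G) : Set G) \ (M t : Set G)) (by
      rintro x ⟨hx, hx'⟩
      exact ⟨hgK x hx, fun h => hx' (hginvM x h)⟩) (n := n) (by
      intro x _
      rw [hit, hn]
      simp)
    have h2 : (((Kt P t (H.sq t) : Subgroup G) : Set G) \ (M t : Set G)).ncard = Nat.card (M t) := by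
      have h3 := Set.ncard_sdiff_add_ncard_of_subset (s := (M t : Set G)) (t := ((Kt P t (H.sq t) : Subgroup G) : Set G)) hMK
      have h4 : (M t : Set G).ncard = Nat.card (M t) := rfl
      have h5 : ((Kt P t (H.sq t) : Subgroup G) : Set G).ncard = Nat.card (Kt (G := G) P t (H.sq t)) := rfl
      omega
    rw [h2] at h1
    have h3 : {x | x ∈ ((Kt P t (H.sq t) : Subgroup G) : Set G) \ (M t : Set G) ∧ g * x * g⁻¹ = x}.ncard ≠ 0 := by
      intro h0
      rw [h0] at h1
      exact H.not_three ht (Nat.dvd_of_mod_eq_zero h1)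
    obtain ⟨k, ⟨hk, hk'⟩, hk2⟩ := Set.nonempty_of_ncard_ne_zero h3
    exact ⟨k, hk, hk', hk2⟩
  have hkg' : ∀ x : U, g • k • x = k • g • x := by
    intro x
    rw [← mul_smul, ← mul_smul]
    congr 1
    calc g * k = g * k * g⁻¹ * g := by group
      _ = k * g := by rw [hkg]
  -- `k` acts trivially on `P t`
  have hkP : ∀ x ∈ P t, k • x = x := by
    by_contra hcon
    push Not at hcon
    obtain ⟨x0, hx0, hkx0⟩ := hcon
    have hkx0' : k • x0 = x0 * t := (hkK.2 x0 hx0).resolve_left hkx0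
    set A : Set U := {x | x ∈ P t ∧ k • x = x} with hA
    set B : Set U := {x | x ∈ P t ∧ k • x ≠ x} with hB
    have h1 : A.ncard = B.ncard := by
      refine Set.ncard_congr (fun x _ => x0 * x) ?_ ?_ ?_
      · rintro x ⟨hx, hkx⟩
        refine ⟨(P t).mul_mem hx0 hx, ?_⟩
        rw [smul_mul', hkx0', hkx]
        intro h
        have h2 := mul_right_cancel h
        exact ht (mul_left_cancel (h2.trans (mul_one x0).symm))
      · intro x y _ _ h
        exact mul_left_cancel h
      · rintro y ⟨hy, hky⟩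
        refine ⟨x0 * y, ⟨(P t).mul_mem hx0 hy, ?_⟩, ?_⟩
        · rw [smul_mul', hkx0', (hkK.2 y hy).resolve_left hky, H.comm y t, mul_assoc x0 t, ← mul_assoc t t y, htt,
            one_mul]
        · rw [← mul_assoc, H.sq, one_mul]
    have h2 : A.ncard + B.ncard = 8 := by
      have h3 : (P t : Set U) = A ∪ B := by
        ext x
        constructor
        · intro hx
          by_cases h : k • x = x
          · exact Or.inl ⟨hx, h⟩
          · exact Or.inr ⟨hx, h⟩
        · rintro (h | h)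
          · exact h.1
          · exact h.1
      have h4 : Disjoint A B := Set.disjoint_left.2 fun x h1 h2 => h2.2 h1.2
      have h5 := Set.ncard_union_eq h4 (Set.toFinite _) (Set.toFinite _)
      rw [← h3] at h5
      have h6 : (P t : Set U).ncard = Nat.card (P t) := rfl
      have h7 := H.cardP ht
      omega
    have h3 := mod3' hg3 B (by
      rintro x ⟨hx, hkx⟩
      refine ⟨H.smul_mem ht hgt hx, fun h => hkx ?_⟩
      rw [← hkg'] at h
      exact smul_left_cancel g h)
    have h4 : B.ncard = 4 := by omega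
    rw [h4] at h3
    have h5 : 4 % 3 = {x | x ∈ B ∧ g • x = x}.ncard % 3 := h3
    obtain ⟨x, ⟨hx, hkx⟩, hgx⟩ := Set.nonempty_of_ncard_ne_zero (s := {x | x ∈ B ∧ g • x = x}) (by omega)
    rcases hg x hx (Or.inl hgx) with h | h
    · exact hkx (by rw [h, smul_one])
    · exact hkx (by rw [h, hkK.1])
  -- the second fixed point
  have hmod := H.orb_mod hg3 t
  rw [h5] at hmod
  have hmod' : 5 % 3 = {y | y ∈ orbit G t ∧ g • y = y}.ncard % 3 := hmod
  have hF := H.fix_le ht hg
  have hs := H.fix_split g ht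
  have htF : t ∈ {y | y ∈ orbit G t ∧ g • y = y} := ⟨mem_orbit_self t, hgt⟩
  obtain ⟨t', ⟨ht'O, ht'g⟩, ht'⟩ : ∃ t', t' ∈ {y | y ∈ orbit G t ∧ g • y = y} ∧ t' ≠ t := by
    by_contra hcon
    push Not at hcon
    have h1 : {y | y ∈ orbit G t ∧ g • y = y} ⊆ {t} := fun y hy => hcon y hy
    have h2 := Set.ncard_le_ncard h1 (Set.toFinite _)
    rw [Set.ncard_singleton] at h2
    omega
  have ht'1 : t' ≠ 1 := orb_ne_one ht ht'O
  have ht'P : t' ∉ P t := by
    intro h
    rcases hg t' h (Or.inl ht'g) with h | h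
    · exact ht'1 h
    · exact ht' h
  have hkt'P : k • t' ∉ P t := fun h => ht'P ((H.smul_mem_iff ht hkK.1).1 h)
  have hkt'g : g • k • t' = k • t' := by rw [hkg', ht'g]
  rcases H.fix_out ht hg ht'P hkt'P ht'g hkt'g with h | h
  · -- `k` acts trivially
    apply hkM
    apply H.le t ht
    apply H.ker'
    intro x
    by_cases hx : x ∈ P t
    · exact hkP x hx
    · have h1 : t' * x ∈ P t :=
        (Subgroup.mul_mem_iff_of_index_two (H.idx t ht)).2 ⟨fun h => absurd h ht'P, fun h => absurd h hx⟩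
      have h2 : x = t' * (t' * x) := by rw [← mul_assoc, H.sq, one_mul]
      rw [h2, smul_mul', h, hkP _ h1]
  · -- three fixed points
    have h1 : ({t, t', t' * t} : Set U) ⊆ {y | y ∈ orbit G t ∧ g • y = y} := by
      rintro y (rfl | rfl | rfl)
      · exact htF
      · exact ⟨ht'O, ht'g⟩
      · rw [← h]
        exact ⟨mem_orbit_of_mem_orbit k ht'O, hkt'g⟩
    have h2 := Set.ncard_le_ncard h1 (Set.toFinite _)
    have h3 : ({t, t', t' * t} : Set U).ncard = 3 := by
      refine Set.ncard_eq_three.2 ⟨t, t', t' * t, ht'.symm, ?_, ?_, rfl⟩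
      · intro h
        apply ht'1
        have h4 : (1 : U) * t = t' * t := by rw [one_mul]; exact h
        exact (mul_right_cancel h4).symm
      · intro h
        apply ht
        have h4 : t' * 1 = t' * t := by rw [mul_one]; exact h
        exact (mul_left_cancel h4).symm
    omega

end Cfg

end Cfsg.Agent.H1.HT
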