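import Cfsg.Agent.H813.HT.A1
import Cfsg.Agent.H662.HT.Frame

/-!
# S3540 / S3577, HT-E D2: `N = 4 ∘ 2^(1+4)` on `17^4` (helper1)

* `neg_of_sq`: central involutions are `-1`;
* `eq_of_fix`: the elements of `N` fixing `C_V(t)` pointwise are `1` and `t`;
* `scalar`: the centre consists of scalars.
-/

set_option autoImplicit false

open scoped commutatorElement

namespace Cfsg.Agent.H1.HT

open Cfsg.Agent.H828.HT Cfsg.Agent.H662.HT Cfsg.Agent.H813.HT

universe u

section gen

variable {N : Type u} [Group N] {V : Type u} [AddCommGroup V] [DistribMulAction N V] {a : ℕ}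

theorem neg_of_sq (H : Sym 2 a N V) {z : N} (hz : z ∈ Subgroup.center N) (hz2 : z * z = 1) (hz1 : z ≠ 1) (v : V) :
    z • v = -v := by
  have h : z • (z • v + v) = z • v + v := by
    rw [smul_add, ← mul_smul, hz2, one_smul, add_comm]
  exact eq_neg_of_add_eq_zero_left (H.semi z hz hz1 _ h)

/-- elements of order 2 outside the centre generate subgroups meeting the centre trivially -/
theorem zpowers_inf {t : N} (ht2 : t * t = 1) (htc : t ∉ Subgroup.center N) :
    Subgroup.zpowers t ⊓ Subgroup.center N = ⊥ := by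
  rw [eq_bot_iff]
  rintro x ⟨hx, hxc⟩
  obtain ⟨k, rfl⟩ := Subgroup.mem_zpowers_iff.1 hx
  rcases Int.even_or_odd' k with ⟨j, rfl | rfl⟩
  · rw [zpow_mul, zpow_ofNat, pow_two, ht2, one_zpow]
    exact Subgroup.mem_bot.2 rfl
  · rw [zpow_add, zpow_mul, zpow_ofNat, pow_two, ht2, one_zpow, one_mul, zpow_one] at hxc
    exact absurd hxc htc

theorem card_zpowers {t : N} (ht2 : t * t = 1) (htc : t ∉ Subgroup.center N) : Nat.card (Subgroup.zpowers t) = 2 := by
  rw [Nat.card_zpowers]
  apply orderOf_eq_prime (by rw [pow_two, ht2])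
  rintro rfl
  exact htc (Subgroup.one_mem _)

/-- the two parts of `V` for a noncentral involution -/
theorem card_fix (H : Sym 2 a N V) {t : N} (ht2 : t * t = 1) (htc : t ∉ Subgroup.center N) :
    Nat.card V = Nat.card (fixp V (Subgroup.zpowers t)) ^ 2 := by
  have h := Sym_card_fixp H (zpowers_inf ht2 htc)
  rwa [card_zpowers ht2 htc] at h

theorem mem_fixp_zpowers {t : N} {v : V} : v ∈ fixp V (Subgroup.zpowers t) ↔ t • v = v := by
  constructor
  · intro h
    exact h t (Subgroup.mem_zpowers t)
  · intro h g hg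
    obtain ⟨k, rfl⟩ := Subgroup.mem_zpowers_iff.1 hg
    have h1 : t ∈ MulAction.stabilizer N v := h
    exact (MulAction.stabilizer N v).zpow_mem h1 k

/-- a fixed vector -/
theorem exists_fix (H : Sym 2 a N V) {t : N} (ht2 : t * t = 1) (htc : t ∉ Subgroup.center N) :
    ∃ v : V, v ≠ 0 ∧ t • v = v := by
  have := H.finV
  have := H.nt
  have h := card_fix H ht2 htc
  by_contra hcon
  push Not at hcon
  have h1 : fixp V (Subgroup.zpowers t) = ⊥ := by
    rw [eq_bot_iff]
    intro v hv
    by_contra hv0
    exact hcon v hv0 (mem_fixp_zpowers.1 hv)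
  rw [h1] at h
  have h2 : Nat.card (⊥ : AddSubgroup V) = 1 := by simp
  rw [h2] at h
  have h3 : 1 < Nat.card V := Finite.one_lt_card
  omega

/-- the elements fixing `C_V(t)` pointwise -/
theorem eq_of_fix (H : Sym 2 a N V) {t : N} (ht2 : t * t = 1) (htc : t ∉ Subgroup.center N) {n : N}
    (hn : ∀ v : V, t • v = v → n • v = v) : n = 1 ∨ n = t := by
  classical
  have := H.finV
  have := H.fin
  have := H.nt
  let S : Subgroup N :=
    { carrier := {n | ∀ v : V, t • v = v → n • v = v}
      one_mem' := fun v _ => one_smul N v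
      mul_mem' := fun {x y} hx hy v hv => by rw [mul_smul, hy v hv, hx v hv]
      inv_mem' := fun {x} hx v hv => by rw [inv_smul_eq_iff, hx v hv] }
  have hS : S ⊓ Subgroup.center N = ⊥ := by
    rw [eq_bot_iff]
    rintro x ⟨hx, hxc⟩
    obtain ⟨v, hv0, hv⟩ := exists_fix H ht2 htc
    by_contra hx1
    exact hv0 (H.semi x hxc (fun h => hx1 (Subgroup.mem_bot.2 h)) v (hx v hv))
  have h1 := Sym_card_fixp H hS
  have h2 := card_fix H ht2 htc
  have h3 : Nat.card (fixp V (Subgroup.zpowers t)) ≤ Nat.card (fixp V S) := by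
    refine AddSubgroup.card_le_of_le ?_
    intro v hv n hn
    exact hn v (mem_fixp_zpowers.1 hv)
  have h4 : 1 < Nat.card (fixp V (Subgroup.zpowers t)) := by
    by_contra hcon
    have h5 : Nat.card (fixp V (Subgroup.zpowers t)) ≤ 1 := by omega
    have h6 : Nat.card V ≤ 1 := by
      rw [h2]
      exact (Nat.pow_le_pow_left h5 2).trans (by norm_num)
    have h7 : 1 < Nat.card V := Finite.one_lt_card
    omega
  have h5 : Nat.card S ≤ 2 := by
    by_contra hcon
    have h6 : Nat.card (fixp V (Subgroup.zpowers t)) ^ 2 < Nat.card (fixp V S) ^ Nat.card S :=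
      (Nat.pow_lt_pow_right h4 (by omega : 2 < Nat.card S)).trans_le (Nat.pow_le_pow_left h3 _)
    omega
  have h6 : ({1, t} : Set N) ⊆ (S : Set N) := by
    rintro x (rfl | rfl)
    · exact S.one_mem
    · exact fun v hv => hv
  have ht1 : t ≠ 1 := by
    rintro rfl
    exact htc (Subgroup.one_mem _)
  have h7 : ({1, t} : Set N) = (S : Set N) := by
    apply Set.eq_of_subset_of_ncard_le h6
    rw [Set.ncard_pair ht1.symm]
    exact h5
  have h8 : n ∈ (S : Set N) := hn
  rw [← h7] at h8
  exact h8

/-- averaging kills noncentral elements -/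
theorem sum_conj (H : Sym 2 a N V) [Fintype N] (h2 : ∀ v : V, v = -v → v = 0) {s : N} (hs : s ∉ Subgroup.center N)
    (v : V) : ∑ y : N, (y * s * y⁻¹) • v = 0 := by
  obtain ⟨u, hu⟩ : ∃ u : N, u * s ≠ s * u := by
    by_contra hcon
    push Not at hcon
    exact hs (Subgroup.mem_center_iff.2 hcon)
  have hz := H.comm u s
  have hz2 : ⁅u, s⁆ * ⁅u, s⁆ = 1 := by rw [← pow_two]; exact H.comm_pow u s
  have hz1 : ⁅u, s⁆ ≠ 1 := fun h => hu (commutatorElement_eq_one_iff_mul_comm.1 h)
  apply h2
  calc ∑ y : N, (y * s * y⁻¹) • v = ∑ y : N, ((y * u) * s * (y * u)⁻¹) • v :=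
        (Fintype.sum_equiv (Equiv.mulRight u) _ _ fun y => rfl).symm
    _ = ∑ y : N, -((y * s * y⁻¹) • v) := by
        refine Finset.sum_congr rfl fun y _ => ?_
        have h1 : (y * u) * s * (y * u)⁻¹ = ⁅u, s⁆ * (y * s * y⁻¹) := by
          have h3 : (y * u) * s * (y * u)⁻¹ = y * ⁅u, s⁆ * (s * y⁻¹) := by
            simp only [commutatorElement_def]; group
          rw [h3, Subgroup.mem_center_iff.1 hz y, mul_assoc, mul_assoc]
        rw [h1, mul_smul, neg_of_sq H hz hz2 hz1]
    _ = _ := Finset.sum_neg_distrib _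

end gen

theorem two17 : (2 : ZMod 17) ≠ 0 := by decide

theorem c64 : ((4 * 2 ^ (2 * 2) : ℕ) : ZMod 17) ≠ 0 := by decide

section seventeen

variable {V : Type u} [AddCommGroup V] [Fact (Nat.Prime 17)] [Module (ZMod 17) V] [Finite V]
  {N : Subgroup (V ≃ₗ[ZMod 17] V)}

theorem two_ne {v : V} (h : v = -v) : v = 0 := by
  have h1 : (2 : ZMod 17) • v = 0 := by
    rw [two_smul]
    nth_rewrite 2 [h]
    exact add_neg_cancel v
  rcases smul_eq_zero.1 h1 with h2 | h2
  · exact absurd h2 two17
  · exact h2

/-- an elementary abelian subgroup of order four -/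
theorem exists_four (H : Sym 2 2 N V) (hF : Full 2 N) :
    ∃ S : Subgroup N, S ⊓ Subgroup.center N = ⊥ ∧ Nat.card S = 4 := by
  classical
  have := H.fin
  -- a noncentral involution
  obtain ⟨x, hx⟩ : ∃ x : N, x ∉ Subgroup.center N := by
    by_contra hcon
    push Not at hcon
    have h1 : Nat.card N = Nat.card (Subgroup.center N) := by
      have h2 : Subgroup.center N = ⊤ := (Subgroup.eq_top_iff' _).2 hcon
      rw [h2, Subgroup.card_top]
    have h3 := H.card
    have h4 : 0 < Nat.card (Subgroup.center N) := Nat.card_pos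
    omega
  obtain ⟨t, ht2, htc⟩ : ∃ t : N, t * t = 1 ∧ t ∉ Subgroup.center N := by
    obtain ⟨c, hc, hxc⟩ := hF x
    refine ⟨x * c, by rw [← pow_two]; exact hxc, fun h => hx ?_⟩
    have := (Subgroup.center N).mul_mem h ((Subgroup.center N).inv_mem hc)
    rwa [mul_inv_cancel_right] at this
  -- the centraliser
  have hcen := Sym_card_cen H (zpowers_inf ht2 htc)
  rw [card_zpowers ht2 htc, H.card] at hcen
  obtain ⟨y, hy, hy'⟩ : ∃ y ∈ Subgroup.centralizer (Subgroup.zpowers t : Set N),
      y ∉ Subgroup.center N ∧ t * y ∉ Subgroup.center N := by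
    by_contra hcon
    push Not at hcon
    have h1 : (Subgroup.centralizer (Subgroup.zpowers t : Set N) : Set N) ⊆
        (Subgroup.center N : Set N) ∪ (fun z => t⁻¹ * z) '' (Subgroup.center N : Set N) := by
      intro y hy
      by_cases h : y ∈ Subgroup.center N
      · exact Or.inl h
      · exact Or.inr ⟨t * y, hcon y hy h, by group⟩
    have h2 := Set.ncard_le_ncard h1 (Set.toFinite _)
    have h3 := Set.ncard_union_le (Subgroup.center N : Set N)
      ((fun z => t⁻¹ * z) '' (Subgroup.center N : Set N))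
    have h4 := Set.ncard_image_le (f := fun z => t⁻¹ * z) (Set.toFinite (Subgroup.center N : Set N))
    have h5 : (Subgroup.center N : Set N).ncard = Nat.card (Subgroup.center N) := rfl
    have h6 : (Subgroup.centralizer (Subgroup.zpowers t : Set N) : Set N).ncard =
      Nat.card (Subgroup.centralizer (Subgroup.zpowers t : Set N)) := rfl
    have h7 : 0 < Nat.card (Subgroup.center N) := Nat.card_pos
    omega
  obtain ⟨r, hr2, htr, hrc, htrc⟩ : ∃ r : N, r * r = 1 ∧ t * r = r * t ∧ r ∉ Subgroup.center N ∧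
      t * r ∉ Subgroup.center N := by
    obtain ⟨d, hd, hyd⟩ := hF y
    have hty : t * y = y * t := Subgroup.mem_centralizer_iff.1 hy t (Subgroup.mem_zpowers t)
    refine ⟨y * d, by rw [← pow_two]; exact hyd, ?_, fun h => hy'.1 ?_, fun h => hy'.2 ?_⟩
    · rw [← mul_assoc, hty, mul_assoc, mul_assoc, Subgroup.mem_center_iff.1 hd t]
    · have := (Subgroup.center N).mul_mem h ((Subgroup.center N).inv_mem hd)
      rwa [mul_inv_cancel_right] at this
    · have := (Subgroup.center N).mul_mem h ((Subgroup.center N).inv_mem hd)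
      rwa [← mul_assoc, mul_inv_cancel_right] at this
  have hti : t⁻¹ = t := inv_eq_of_mul_eq_one_right ht2
  have hri : r⁻¹ = r := inv_eq_of_mul_eq_one_right hr2
  have hrt2 : (t * r) * (t * r) = 1 := by
    rw [mul_assoc, ← mul_assoc r t r, ← htr, mul_assoc, hr2, mul_one, ht2]
  let S : Subgroup N :=
    { carrier := {1, t, r, t * r}
      one_mem' := Or.inl rfl
      mul_mem' := by
        rintro a b (rfl | rfl | rfl | rfl) (rfl | rfl | rfl | rfl)
        · left; rw [one_mul]
        · right; left; rw [one_mul]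
        · right; right; left; rw [one_mul]
        · right; right; right; rw [one_mul]; rfl
        · right; left; rw [mul_one]
        · left; exact ht2
        · right; right; right; rfl
        · right; right; left; rw [← mul_assoc, ht2, one_mul]
        · right; right; left; rw [mul_one]
        · right; right; right; exact htr.symm
        · left; exact hr2
        · right; left; rw [htr, ← mul_assoc, hr2, one_mul]
        · right; right; right; rw [mul_one]; rfl
        · right; right; left; rw [htr, mul_assoc, ht2, mul_one]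
        · right; left; rw [mul_assoc, hr2, mul_one]
        · left; exact hrt2
      inv_mem' := by
        rintro a (rfl | rfl | rfl | rfl)
        · left; exact inv_one
        · right; left; exact hti
        · right; right; left; exact hri
        · right; right; right; exact inv_eq_of_mul_eq_one_right hrt2 }
  refine ⟨S, ?_, ?_⟩
  · rw [eq_bot_iff]
    rintro a ⟨ha, hac⟩
    rcases ha with rfl | rfl | rfl | rfl
    · exact Subgroup.mem_bot.2 rfl
    · exact absurd hac htc
    · exact absurd hac hrc
    · exact absurd hac htrc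
  · change ({1, t, r, t * r} : Set N).ncard = 4
    have h1t : (1 : N) ≠ t := fun h => htc (h ▸ Subgroup.one_mem _)
    have h1r : (1 : N) ≠ r := fun h => hrc (h ▸ Subgroup.one_mem _)
    have h1tr : (1 : N) ≠ t * r := fun h => htrc (h ▸ Subgroup.one_mem _)
    have h2 : t ≠ r := by
      intro h
      apply h1tr
      rw [← h, ht2]
    have h3 : t ≠ t * r := by
      intro h
      apply h1r
      have : t * 1 = t * r := by rw [mul_one]; exact h
      exact mul_left_cancel this
    have h4 : r ≠ t * r := by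
      intro h
      apply h1t
      have : 1 * r = t * r := by rw [one_mul]; exact h
      exact mul_right_cancel this
    rw [Set.ncard_insert_of_notMem, Set.ncard_insert_of_notMem, Set.ncard_pair h4]
    · simp only [Set.mem_insert_iff, Set.mem_singleton_iff, not_or]
      exact ⟨h2, h3⟩
    · simp only [Set.mem_insert_iff, Set.mem_singleton_iff, not_or]
      exact ⟨h1t, h1r, h1tr⟩

/-- the centre consists of scalars -/
theorem scalar (hV : Nat.card V = 17 ^ 4) (H : Sym 2 2 N V) (hF : Full 2 N)
    (hz4 : Nat.card (Subgroup.center N) = 4) {z : N} (hz : z ∈ Subgroup.center N) :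
    ∃ c : ZMod 17, ∀ v : V, z • v = c • v := by
  classical
  have := H.fin
  have : Fintype N := Fintype.ofFinite N
  obtain ⟨S, hS, hS4⟩ := exists_four H hF
  have : Fintype S := Fintype.ofFinite S
  have h1 := Sym_card_fixp H hS
  rw [hS4, hV] at h1
  have h2 : Nat.card (fixp V S) = 17 := (Nat.pow_left_injective (n := 4) (by norm_num) h1).symm
  -- a generator
  have hnt : Nontrivial (fixp V S) := Finite.one_lt_card_iff_nontrivial.1 (by rw [h2]; norm_num)
  obtain ⟨v0, hv0⟩ := exists_ne (0 : fixp V S)
  have hv0' : (v0 : V) ≠ 0 := fun h => hv0 (Subtype.ext h)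
  have hsm : ∀ (c : ZMod 17) (v : V), v ∈ fixp V S → c • v ∈ fixp V S := by
    intro c v hv g hg
    have h3 : g • c • v = c • g • v := map_smul (g : V ≃ₗ[ZMod 17] V) c v
    rw [h3, hv g hg]
  have hsurj : ∀ v ∈ fixp V S, ∃ c : ZMod 17, c • (v0 : V) = v := by
    have hinj : Function.Injective fun c : ZMod 17 => (⟨c • (v0 : V), hsm c v0 v0.2⟩ : fixp V S) := by
      intro c d h
      have h3 : c • (v0 : V) = d • (v0 : V) := congrArg Subtype.val h
      exact smul_left_injective (ZMod 17) hv0' h3
    have hsj : Function.Surjective fun c : ZMod 17 => (⟨c • (v0 : V), hsm c v0 v0.2⟩ : fixp V S) := by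
      have h3 : Nat.card (ZMod 17) = Nat.card (fixp V S) := by rw [h2, Nat.card_zmod]
      exact (Function.Injective.bijective_of_nat_card_le hinj h3.ge).2
    intro v hv
    obtain ⟨c, hc⟩ := hsj ⟨v, hv⟩
    exact ⟨c, congrArg Subtype.val hc⟩
  have hzS : ∀ v ∈ fixp V S, z • v ∈ fixp V S := by
    intro v hv g hg
    rw [← mul_smul, Subgroup.mem_center_iff.1 hz g, mul_smul, hv g hg]
  obtain ⟨c, hc⟩ := hsurj _ (hzS v0 v0.2)
  have hlin : ∀ (g : N) (d : ZMod 17) (v : V), g • d • v = d • g • v :=
    fun g d v => map_smul (g : V ≃ₗ[ZMod 17] V) d v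
  have hcS : ∀ v ∈ fixp V S, z • v = c • v := by
    intro v hv
    obtain ⟨d, rfl⟩ := hsurj v hv
    rw [hlin, ← hc, smul_comm]
  refine ⟨c, fun v => ?_⟩
  -- averaging
  let e : V → V := fun v => ∑ s : S, (s : N) • v
  have he : ∀ v, e v ∈ fixp V S := by
    intro v g hg
    change g • ∑ s : S, (s : N) • v = ∑ s : S, (s : N) • v
    rw [Finset.smul_sum]
    refine Fintype.sum_equiv (Equiv.mulLeft (⟨g, hg⟩ : S)) _ _ fun s => ?_
    rw [← mul_smul]
    rfl
  have h64 : ∀ v : V, ∑ y : N, y • e (y⁻¹ • v) = (Nat.card N : ZMod 17) • v := by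
    intro v
    have h3 : ∑ y : N, y • e (y⁻¹ • v) = ∑ s : S, ∑ y : N, (y * (s : N) * y⁻¹) • v := by
      rw [Finset.sum_comm]
      refine Finset.sum_congr rfl fun y _ => ?_
      change y • ∑ s : S, (s : N) • y⁻¹ • v = _
      rw [Finset.smul_sum]
      exact Finset.sum_congr rfl fun s _ => by rw [← mul_smul, ← mul_smul, mul_assoc]
    rw [h3, Finset.sum_eq_single (1 : S)]
    · simp only [Subgroup.coe_one, mul_one, mul_inv_cancel, one_smul, Finset.sum_const, Finset.card_univ]
      rw [← Nat.card_eq_fintype_card, Nat.cast_smul_eq_nsmul]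
    · intro s _ hs
      refine sum_conj H (fun v hv => two_ne hv) ?_ v
      intro hsc
      apply hs
      have h4 : (s : N) ∈ S ⊓ Subgroup.center N := ⟨s.2, hsc⟩
      rw [hS, Subgroup.mem_bot] at h4
      exact Subtype.ext h4
    · intro h
      exact absurd (Finset.mem_univ _) h
  have h5 : z • ((Nat.card N : ZMod 17) • v) = c • ((Nat.card N : ZMod 17) • v) := by
    rw [← h64, Finset.smul_sum, Finset.smul_sum]
    refine Finset.sum_congr rfl fun y _ => ?_
    rw [← mul_smul, ← Subgroup.mem_center_iff.1 hz y, mul_smul, hcS _ (he _), hlin]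
  rw [hlin, smul_comm c] at h5
  have h6 : (Nat.card N : ZMod 17) ≠ 0 := by
    rw [H.card, hz4]
    exact c64
  exact smul_right_injective V h6 h5

end seventeen

end Cfsg.Agent.H1.HT
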