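import Cfsg.Agent.H1.HT.Beta
import Cfsg.Agent.H1.HT.Scal

/-!
# S3540 / S3577, HT-E D2: `beta_two` (helper1)
-/

set_option autoImplicit false

open scoped commutatorElement

namespace Cfsg.Agent.H1.HT

open Cfsg.Agent.H828.HT Cfsg.Agent.H662.HT Cfsg.Agent.H813.HT MulAction

universe u

/-- automorphisms act on the central quotient -/
def qa (K : Type u) [Group K] : MulAut K →* MulAut (K ⧸ Subgroup.center K) where
  toFun e := QuotientGroup.congr _ _ e (Subgroup.characteristic_iff_map_eq.1 inferInstance e)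
  map_one' := by
    ext x
    obtain ⟨a, rfl⟩ := QuotientGroup.mk_surjective x
    rfl
  map_mul' e f := by
    ext x
    obtain ⟨a, rfl⟩ := QuotientGroup.mk_surjective x
    rfl

variable {V : Type u} [AddCommGroup V] [Fact (Nat.Prime 17)] [Module (ZMod 17) V]
  {G N : Subgroup (V ≃ₗ[ZMod 17] V)}

/-- conjugation -/
def cj (hn : ∀ g ∈ G, ∀ x ∈ N, g * x * g⁻¹ ∈ N) : G →* MulAut N where
  toFun g :=
    { toFun := fun x => ⟨g * x * (g : V ≃ₗ[ZMod 17] V)⁻¹, hn g g.2 x x.2⟩
      invFun := fun x => ⟨(g : V ≃ₗ[ZMod 17] V)⁻¹ * x * g, by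
        have := hn _ (G.inv_mem g.2) x x.2
        rwa [inv_inv] at this⟩
      left_inv := fun x => Subtype.ext (by simp [mul_assoc])
      right_inv := fun x => Subtype.ext (by simp [mul_assoc])
      map_mul' := fun x y => Subtype.ext (by simp [mul_assoc]) }
  map_one' := by
    refine MulEquiv.ext fun x => Subtype.ext ?_
    change (1 : V ≃ₗ[ZMod 17] V) * x * (1 : V ≃ₗ[ZMod 17] V)⁻¹ = x
    rw [one_mul, inv_one, mul_one]
  map_mul' g h := by
    refine MulEquiv.ext fun x => Subtype.ext ?_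
    change (g * h : V ≃ₗ[ZMod 17] V) * x * (g * h : V ≃ₗ[ZMod 17] V)⁻¹ =
      (g : V ≃ₗ[ZMod 17] V) * (h * x * (h : V ≃ₗ[ZMod 17] V)⁻¹) * (g : V ≃ₗ[ZMod 17] V)⁻¹
    rw [mul_inv_rev]
    simp only [mul_assoc]

section one

variable (hn : ∀ g ∈ G, ∀ x ∈ N, g * x * g⁻¹ ∈ N)

theorem cj_coe (g : G) (x : N) : ((cj hn g x : N) : V ≃ₗ[ZMod 17] V) = g * x * (g : V ≃ₗ[ZMod 17] V)⁻¹ := rfl

/-- the action on `N / Z(N)` -/
def sm (g : G) (x : N ⧸ Subgroup.center N) : N ⧸ Subgroup.center N := qa N (cj hn g) x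

theorem sm_mk (g : G) (a : N) :
    sm hn g (a : N ⧸ Subgroup.center N) = ((cj hn g a : N) : N ⧸ Subgroup.center N) := rfl

theorem exists_tau (hF : Full 2 N) (t : N ⧸ Subgroup.center N) :
    ∃ a : N, (a : N ⧸ Subgroup.center N) = t ∧ a * a = 1 := by
  obtain ⟨b, rfl⟩ := QuotientGroup.mk_surjective t
  obtain ⟨c, hc, h⟩ := hF b
  refine ⟨b * c, ?_, by rw [← pow_two]; exact h⟩
  rw [QuotientGroup.mk_mul, (QuotientGroup.eq_one_iff c).2 hc, mul_one]

/-- an involution in the coset -/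
noncomputable def tau (hF : Full 2 N) (t : N ⧸ Subgroup.center N) : N := Classical.choose (exists_tau hF t)

theorem tau_mk (hF : Full 2 N) (t : N ⧸ Subgroup.center N) : (tau hF t : N ⧸ Subgroup.center N) = t :=
  (Classical.choose_spec (exists_tau hF t)).1

theorem tau_sq (hF : Full 2 N) (t : N ⧸ Subgroup.center N) : tau hF t * tau hF t = 1 :=
  (Classical.choose_spec (exists_tau hF t)).2

theorem tau_notMem (hF : Full 2 N) {t : N ⧸ Subgroup.center N} (ht : t ≠ 1) : tau hF t ∉ Subgroup.center N := by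
  intro h
  apply ht
  rw [← tau_mk hF t]
  exact (QuotientGroup.eq_one_iff _).2 h

/-- the orthogonal of `t` -/
noncomputable def Pt (hF : Full 2 N) (t : N ⧸ Subgroup.center N) : Subgroup (N ⧸ Subgroup.center N) :=
  (Subgroup.centralizer (Subgroup.zpowers (tau hF t) : Set N)).map (QuotientGroup.mk' (Subgroup.center N))

theorem comm_of_mk {a b x : N} (h : (a : N ⧸ Subgroup.center N) = b) (hb : b * x = x * b) : a * x = x * a := by
  have h1 : b⁻¹ * a ∈ Subgroup.center N := QuotientGroup.eq.1 h.symm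
  have h2 : a = b * (b⁻¹ * a) := by group
  rw [h2, mul_assoc, ← Subgroup.mem_center_iff.1 h1 x, ← mul_assoc, hb, mul_assoc]

theorem mem_Pt (hF : Full 2 N) (t : N ⧸ Subgroup.center N) (a : N) :
    (a : N ⧸ Subgroup.center N) ∈ Pt hF t ↔ a * tau hF t = tau hF t * a := by
  constructor
  · rintro ⟨b, hb, hba⟩
    have h1 := (Subgroup.mem_centralizer_iff.1 hb) (tau hF t) (Subgroup.mem_zpowers _)
    exact comm_of_mk hba.symm h1.symm
  · intro h
    refine ⟨a, ?_, rfl⟩
    refine Subgroup.mem_centralizer_iff.2 fun x hx => ?_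
    obtain ⟨k, rfl⟩ := Subgroup.mem_zpowers_iff.1 hx
    exact ((Commute.zpow_right h k) : a * _ = _ * a).symm

/-- the pointwise stabiliser of `C_V(t)` -/
noncomputable def Rt (G : Subgroup (V ≃ₗ[ZMod 17] V)) (hF : Full 2 N) (t : N ⧸ Subgroup.center N) : Subgroup G where
  carrier := {g | ∀ v : V, tau hF t • v = v → (g : V ≃ₗ[ZMod 17] V) v = v}
  one_mem' := fun v _ => rfl
  mul_mem' := fun {g h} hg hh v hv => by
    change (g : V ≃ₗ[ZMod 17] V) ((h : V ≃ₗ[ZMod 17] V) v) = v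
    rw [hh v hv, hg v hv]
  inv_mem' := fun {g} hg v hv => by
    have h1 : (g : V ≃ₗ[ZMod 17] V) v = v := hg v hv
    have h2 : ((g : V ≃ₗ[ZMod 17] V)⁻¹) ((g : V ≃ₗ[ZMod 17] V) v) = v := by
      rw [← LinearEquiv.mul_apply, inv_mul_cancel]; rfl
    rw [h1] at h2
    exact h2

include hn in
theorem normal : (N.subgroupOf G).Normal := ⟨fun x hx g => hn g g.2 x hx⟩

theorem card_N' (hN : N ≤ G) : Nat.card (N.subgroupOf G) = Nat.card N :=
  Nat.card_congr (Subgroup.subgroupOfEquivOfLe hN).toEquiv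

end one

section two

set_option linter.unusedSectionVars false

variable [Finite V] (hn : ∀ g ∈ G, ∀ x ∈ N, g * x * g⁻¹ ∈ N) (H : Sym 2 2 N V) (hF : Full 2 N)

theorem central_of_scalar {y : N} {c : ZMod 17} (h : ∀ v : V, y • v = c • v) : y ∈ Subgroup.center N := by
  refine Subgroup.mem_center_iff.2 fun x => Subtype.ext (LinearEquiv.ext fun v => ?_)
  change x • y • v = y • x • v
  rw [h, h]
  exact map_smul (x : V ≃ₗ[ZMod 17] V) c v

theorem mk_eq_of_scalar {a b : N} {c : ZMod 17} (h : ∀ v : V, a • v = c • b • v) :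
    (a : N ⧸ Subgroup.center N) = b := by
  apply Eq.symm
  rw [QuotientGroup.eq]
  have h1 : a * b⁻¹ ∈ Subgroup.center N := by
    apply central_of_scalar (c := c)
    intro v
    rw [mul_smul, h, smul_inv_smul]
  have h2 : b⁻¹ * a = b⁻¹ * (a * b⁻¹) * b := by group
  rw [h2, Subgroup.mem_center_iff.1 h1 b⁻¹, mul_assoc, inv_mul_cancel, mul_one]
  exact h1

include H in
/-- points fixed by `g` -/
theorem sm_tau (g : G) (t : N ⧸ Subgroup.center N) (h : sm hn g t = t) :
    cj hn g (tau hF t) = tau hF t ∨ ∀ v : V, cj hn g (tau hF t) • v = -(tau hF t • v) := by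
  have h1 : ((cj hn g (tau hF t) : N) : N ⧸ Subgroup.center N) = tau hF t := by
    rw [← sm_mk, tau_mk, h]
  have h2 : (tau hF t)⁻¹ * cj hn g (tau hF t) ∈ Subgroup.center N := QuotientGroup.eq.1 h1.symm
  have hti : (tau hF t)⁻¹ = tau hF t := inv_eq_of_mul_eq_one_right (tau_sq hF t)
  obtain ⟨z, hz⟩ : ∃ z, z = (tau hF t)⁻¹ * cj hn g (tau hF t) := ⟨_, rfl⟩
  rw [← hz] at h2
  have h3 : cj hn g (tau hF t) = tau hF t * z := by rw [hz]; group
  have h4 : cj hn g (tau hF t) * cj hn g (tau hF t) = 1 := by rw [← map_mul, tau_sq, map_one]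
  have h5 : z * z = 1 := by
    rw [h3] at h4
    have h6 : tau hF t * z * (tau hF t * z) = (tau hF t * tau hF t) * (z * z) := by
      rw [mul_assoc, ← mul_assoc z (tau hF t) z, ← Subgroup.mem_center_iff.1 h2 (tau hF t)]
      simp only [mul_assoc]
    rw [h6, tau_sq, one_mul] at h4
    exact h4
  by_cases hz1 : z = 1
  · left; rw [h3, hz1, mul_one]
  · right
    intro v
    rw [h3, mul_smul, neg_of_sq H h2 h5 hz1]
    exact map_neg (tau hF t : V ≃ₗ[ZMod 17] V) v

include H in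
/-- `R t` acts as wanted -/
theorem Rt_act {t : N ⧸ Subgroup.center N} (ht : t ≠ 1) {r : G} (hr : r ∈ Rt G hF t) :
    cj hn r (tau hF t) = tau hF t ∧ ∀ x : N, x * tau hF t = tau hF t * x →
      cj hn r x = x ∨ cj hn r x = x * tau hF t := by
  have key : ∀ x : N, x * tau hF t = tau hF t * x → cj hn r x = x ∨ cj hn r x = x * tau hF t := by
    intro x hx
    have h1 : ∀ v : V, tau hF t • v = v → (x⁻¹ * cj hn r x) • v = v := by
      intro v hv
      have hr' : ∀ w : V, tau hF t • w = w → ((r : V ≃ₗ[ZMod 17] V)⁻¹) w = w := fun w hw => (Rt G hF t).inv_mem hr w hw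
      have h2 : tau hF t • x • v = x • v := by rw [← mul_smul, ← hx, mul_smul, hv]
      rw [mul_smul]
      change x⁻¹ • ((r : V ≃ₗ[ZMod 17] V) (x • ((r : V ≃ₗ[ZMod 17] V)⁻¹ v))) = v
      rw [hr' v hv, hr _ h2, inv_smul_smul]
    rcases eq_of_fix H (tau_sq hF t) (tau_notMem hF ht) h1 with h | h
    · left
      have := congrArg (x * ·) h
      simpa using this
    · right
      have := congrArg (x * ·) h
      simpa using this
  refine ⟨?_, key⟩
  rcases key (tau hF t) rfl with h | h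
  · exact h
  · rw [tau_sq] at h
    exfalso
    have h1 : tau hF t = 1 := (cj hn r).injective (h.trans (map_one _).symm)
    exact tau_notMem hF ht (h1 ▸ Subgroup.one_mem _)

include H in
/-- elements of `R t` acting trivially on `N / Z(N)` are in `N` -/
theorem Rt_ker {t : N ⧸ Subgroup.center N}
    (ht : t ≠ 1) {r : G} (hr : r ∈ Rt G hF t) (h1 : ∀ x, sm hn r x = x) : (r : V ≃ₗ[ZMod 17] V) ∈ N := by
  classical
  set τ := tau hF t with hτ
  have hτ2 : τ * τ = 1 := tau_sq hF t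
  have hτc : τ ∉ Subgroup.center N := tau_notMem hF ht
  -- an involution not commuting with `τ`
  obtain ⟨x, hx2, hxτ⟩ : ∃ x : N, x * x = 1 ∧ x * τ ≠ τ * x := by
    obtain ⟨y, hy⟩ : ∃ y : N, y * τ ≠ τ * y := by
      by_contra hcon
      push Not at hcon
      exact hτc (Subgroup.mem_center_iff.2 hcon)
    obtain ⟨c, hc, hyc⟩ := hF y
    refine ⟨y * c, by rw [← pow_two]; exact hyc, fun h => hy ?_⟩
    refine comm_of_mk (b := y * c) ?_ h
    rw [QuotientGroup.mk_mul, (QuotientGroup.eq_one_iff c).2 hc, mul_one]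
  have hxi : x⁻¹ = x := inv_eq_of_mul_eq_one_right hx2
  -- the commutator is `-1`
  have hcm : ∀ v : V, x • τ • v = -(τ • x • v) := by
    intro v
    have h2 := neg_of_sq H (H.comm x τ) (by rw [← pow_two]; exact H.comm_pow x τ)
      (fun h => hxτ (commutatorElement_eq_one_iff_mul_comm.1 h)) (τ • x • v)
    rw [← h2, ← mul_smul, ← mul_smul, ← mul_smul]
    congr 1
    simp only [commutatorElement_def]
    group
  -- `r x r⁻¹ = x ζ`
  have h2 : ((cj hn r x : N) : N ⧸ Subgroup.center N) = x := by rw [← sm_mk]; exact h1 _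
  have h3 : x⁻¹ * cj hn r x ∈ Subgroup.center N := QuotientGroup.eq.1 h2.symm
  obtain ⟨ζ, hζ⟩ : ∃ ζ, ζ = x⁻¹ * cj hn r x := ⟨_, rfl⟩
  rw [← hζ] at h3
  have h4 : cj hn r x = x * ζ := by rw [hζ]; group
  have h5 : ζ * ζ = 1 := by
    have h6 : cj hn r x * cj hn r x = 1 := by rw [← map_mul, hx2, map_one]
    rw [h4] at h6
    have h7 : x * ζ * (x * ζ) = (x * x) * (ζ * ζ) := by
      rw [mul_assoc, ← mul_assoc ζ x ζ, ← Subgroup.mem_center_iff.1 h3 x]
      simp only [mul_assoc]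
    rw [h7, hx2, one_mul] at h6
    exact h6
  have hrx : ∀ v : V, (r : V ≃ₗ[ZMod 17] V) (x • v) = x • ζ • ((r : V ≃ₗ[ZMod 17] V) v) := by
    intro v
    have h6 : (cj hn r x) • ((r : V ≃ₗ[ZMod 17] V) v) = (r : V ≃ₗ[ZMod 17] V) (x • v) := by
      change (r : V ≃ₗ[ZMod 17] V) (x • ((r : V ≃ₗ[ZMod 17] V)⁻¹ ((r : V ≃ₗ[ZMod 17] V) v))) = _
      have h7 : ((r : V ≃ₗ[ZMod 17] V)⁻¹) ((r : V ≃ₗ[ZMod 17] V) v) = v := by
        rw [← LinearEquiv.mul_apply, inv_mul_cancel]; rfl
      rw [h7]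
    rw [← h6, h4, mul_smul]
  -- the two parts of `V`
  have hrp : ∀ v : V, τ • v = v → (r : V ≃ₗ[ZMod 17] V) v = v := hr
  have hrm : ∀ v : V, τ • v = -v → (r : V ≃ₗ[ZMod 17] V) v = ζ • v := by
    intro v hv
    have h6 : τ • x • v = x • v := by
      have := hcm v
      rw [hv, smul_neg] at this
      exact (neg_inj.1 this).symm
    have h7 := hrx (x • v)
    rw [← mul_smul x x v, hx2, one_smul, hrp _ h6] at h7
    rw [h7, ← mul_smul, ← mul_smul]
    congr 1
    calc x * ζ * x = (x * x) * ζ := by rw [mul_assoc, ← Subgroup.mem_center_iff.1 h3 x, mul_assoc]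
      _ = ζ := by rw [hx2, one_mul]
  have hsplit : ∀ v : V, (2 : ZMod 17) • v = (v + τ • v) + (v - τ • v) := by
    intro v
    rw [two_smul]
    abel
  have hp : ∀ v : V, τ • (v + τ • v) = v + τ • v := by
    intro v
    rw [smul_add, ← mul_smul, hτ2, one_smul, add_comm]
  have hm : ∀ v : V, τ • (v - τ • v) = -(v - τ • v) := by
    intro v
    rw [smul_sub, ← mul_smul, hτ2, one_smul, neg_sub]
  have hinj : Function.Injective fun v : V => (2 : ZMod 17) • v := smul_right_injective V two17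
  by_cases hζ1 : ζ = 1
  · -- `r = 1`
    have h6 : (r : V ≃ₗ[ZMod 17] V) = 1 := by
      refine LinearEquiv.ext fun v => hinj ?_
      change (2 : ZMod 17) • (r : V ≃ₗ[ZMod 17] V) v = (2 : ZMod 17) • v
      rw [← map_smul, hsplit, map_add, hrp _ (hp v), hrm _ (hm v), hζ1, one_smul]
    rw [h6]
    exact N.one_mem
  · -- `r = τ`
    have h6 : (r : V ≃ₗ[ZMod 17] V) = τ := by
      refine LinearEquiv.ext fun v => hinj ?_
      change (2 : ZMod 17) • (r : V ≃ₗ[ZMod 17] V) v = (2 : ZMod 17) • (τ • v)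
      rw [← map_smul, hsplit, map_add, hrp _ (hp v), hrm _ (hm v), neg_of_sq H h3 h5 hζ1, two_smul]
      abel
    rw [h6]
    exact τ.2

include H in
/-- elements of odd order -/
theorem cj_three {t : N ⧸ Subgroup.center N} (ht : t ≠ 1) {g : G} (hg : sm hn g t = t) (h3 : ∃ n, g ^ 3 ^ n = 1) :
    cj hn g (tau hF t) = tau hF t := by
  rcases sm_tau hn H hF g t hg with h | h
  · exact h
  · exfalso
    obtain ⟨n, hn'⟩ := h3
    have h1 : ∀ (j : ℕ) (v : V), ((cj hn g)^[2 * j + 1]) (tau hF t) • v = -(tau hF t • v) := by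
      intro j
      have hneg : ∀ (x y : N), (∀ v : V, x • v = -(y • v)) → ∀ v : V, cj hn g x • v = -(cj hn g y • v) := by
        intro x y hxy v
        change (g : V ≃ₗ[ZMod 17] V) (x • ((g : V ≃ₗ[ZMod 17] V)⁻¹ v)) =
          -((g : V ≃ₗ[ZMod 17] V) (y • ((g : V ≃ₗ[ZMod 17] V)⁻¹ v)))
        rw [hxy, map_neg]
      induction j with
      | zero => exact h
      | succ j ih =>
        intro v
        rw [show 2 * (j + 1) + 1 = (2 * j + 1) + 1 + 1 by ring, Function.iterate_succ_apply',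
          Function.iterate_succ_apply']
        have h2 := hneg _ _ ih
        have h4 : ∀ v : V, cj hn g ((cj hn g)^[2 * j + 1] (tau hF t)) • v = tau hF t • v := by
          intro v
          rw [h2, h, neg_neg]
        have h5 : cj hn g ((cj hn g)^[2 * j + 1] (tau hF t)) = tau hF t :=
          Subtype.ext (LinearEquiv.ext h4)
        rw [h5, h]
    obtain ⟨j, hj⟩ : ∃ j, 3 ^ n = 2 * j + 1 := (Odd.pow (by decide : Odd 3) : Odd (3 ^ n))
    have h2 : ((cj hn g)^[3 ^ n]) (tau hF t) = tau hF t := by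
      have h4 : ∀ k : ℕ, ((cj hn g)^[k]) (tau hF t) = cj hn (g ^ k) (tau hF t) := by
        intro k
        induction k with
        | zero => rw [pow_zero, map_one]; rfl
        | succ k ih => rw [Function.iterate_succ_apply', ih, pow_succ', map_mul]; rfl
      rw [h4, hn', map_one]
      rfl
    obtain ⟨v, hv0, hv⟩ := exists_fix H (tau_sq hF t) (tau_notMem hF ht)
    have h4 := h1 j v
    rw [← hj, h2, hv] at h4
    exact hv0 (two_ne h4)

include H in
theorem index_Pt {t : N ⧸ Subgroup.center N} (ht : t ≠ 1) : (Pt hF t).index = 2 := by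
  have := H.fin
  have h1 := Sym_card_cen H (zpowers_inf (tau_sq hF t) (tau_notMem hF ht))
  rw [card_zpowers (tau_sq hF t) (tau_notMem hF ht)] at h1
  have h2 := Subgroup.card_mul_index (Subgroup.centralizer (Subgroup.zpowers (tau hF t) : Set N))
  have h3 : 0 < Nat.card (Subgroup.centralizer (Subgroup.zpowers (tau hF t) : Set N)) := Nat.card_pos
  rw [← h1] at h2
  have h4 := Nat.eq_of_mul_eq_mul_left h3 h2
  rw [Pt, Subgroup.index_map_eq _ (QuotientGroup.mk'_surjective _), h4]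
  rw [QuotientGroup.ker_mk']
  exact fun z hz => Subgroup.mem_centralizer_iff.2 fun x _ => Subgroup.mem_center_iff.1 hz x

theorem sm_N {g : G} (hg : (g : V ≃ₗ[ZMod 17] V) ∈ N) (H : Sym 2 2 N V) (x : N ⧸ Subgroup.center N) :
    sm hn g x = x := by
  obtain ⟨a, rfl⟩ := QuotientGroup.mk_surjective x
  rw [sm_mk]
  apply Eq.symm
  rw [QuotientGroup.eq]
  have h1 : a⁻¹ * cj hn g a = ⁅a⁻¹, (⟨g, hg⟩ : N)⁆ := by
    apply Subtype.ext
    change (a : V ≃ₗ[ZMod 17] V)⁻¹ * (g * a * (g : V ≃ₗ[ZMod 17] V)⁻¹) =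
      (a : V ≃ₗ[ZMod 17] V)⁻¹ * g * ((a : V ≃ₗ[ZMod 17] V)⁻¹)⁻¹ * (g : V ≃ₗ[ZMod 17] V)⁻¹
    rw [inv_inv]
    simp only [mul_assoc]
  rw [h1]
  exact H.comm _ _

/-- the two conditions on `g` -/
theorem six_one (H : Sym 2 2 N V) (hF : Full 2 N) {t : N ⧸ Subgroup.center N} (ht : t ≠ 1) (g : G) :
    sm hn g t = t ↔ (g : V ≃ₗ[ZMod 17] V) ∈ Lst G (tau hF t) := by
  have hcj : ∀ v : V, cj hn g (tau hF t) • ((g : V ≃ₗ[ZMod 17] V) v) = (g : V ≃ₗ[ZMod 17] V) (tau hF t • v) := by
    intro v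
    change (g : V ≃ₗ[ZMod 17] V) (tau hF t • ((g : V ≃ₗ[ZMod 17] V)⁻¹ ((g : V ≃ₗ[ZMod 17] V) v))) = _
    have h7 : ((g : V ≃ₗ[ZMod 17] V)⁻¹) ((g : V ≃ₗ[ZMod 17] V) v) = v := by
      rw [← LinearEquiv.mul_apply, inv_mul_cancel]; rfl
    rw [h7]
  have hsurj : ∀ v : V, ∃ w, (g : V ≃ₗ[ZMod 17] V) w = v := (g : V ≃ₗ[ZMod 17] V).surjective
  constructor
  · intro h
    refine ⟨g.2, ?_⟩
    rcases sm_tau hn H hF g t h with h1 | h1
    · left
      intro v
      have := hcj v
      rw [h1] at this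
      exact this.symm
    · right
      intro v
      have := hcj v
      rw [h1] at this
      exact this.symm
  · rintro ⟨-, h | h⟩
    · have h1 : cj hn g (tau hF t) = tau hF t := by
        refine Subtype.ext (LinearEquiv.ext fun v => ?_)
        obtain ⟨w, rfl⟩ := hsurj v
        exact (hcj w).trans (h w)
      rw [← tau_mk hF t, sm_mk, tau_mk, h1, tau_mk]
    · have h1 : ∀ v : V, cj hn g (tau hF t) • v = (-1 : ZMod 17) • tau hF t • v := by
        intro v
        obtain ⟨w, rfl⟩ := hsurj v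
        rw [neg_one_smul]
        exact (hcj w).trans (h w)
      have h2 := mk_eq_of_scalar h1
      rw [← sm_mk, tau_mk] at h2
      exact h2

theorem six_two (hV : Nat.card V = 17 ^ 4) (H : Sym 2 2 N V) (hF : Full 2 N)
    (hz : Nat.card (Subgroup.center N) = 4) {t : N ⧸ Subgroup.center N} (ht : t ≠ 1) (g : G) :
    (sm hn g t = t ∧ ∀ x ∈ Pt hF t, sm hn g x = x ∨ sm hn g x = x * t) ↔
      (g : V ≃ₗ[ZMod 17] V) ∈ Kst G N (tau hF t) := by
  have hcom : ∀ x : N, (∀ v : V, (x : V ≃ₗ[ZMod 17] V) ((tau hF t : V ≃ₗ[ZMod 17] V) v) =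
      (tau hF t : V ≃ₗ[ZMod 17] V) ((x : V ≃ₗ[ZMod 17] V) v)) ↔ x * tau hF t = tau hF t * x := by
    intro x
    constructor
    · intro h
      exact Subtype.ext (LinearEquiv.ext h)
    · intro h v
      exact DFunLike.congr_fun (congrArg Subtype.val h) v
  constructor
  · rintro ⟨h1, h2⟩
    refine ⟨(six_one hn H hF ht g).1 h1, fun x hx hxt => ?_⟩
    have hxt' := (hcom ⟨x, hx⟩).1 hxt
    rcases h2 ((⟨x, hx⟩ : N) : N ⧸ Subgroup.center N) ((mem_Pt hF t _).2 hxt') with h | h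
    · rw [sm_mk] at h
      have h3 : (⟨x, hx⟩ : N)⁻¹ * cj hn g ⟨x, hx⟩ ∈ Subgroup.center N := QuotientGroup.eq.1 h.symm
      obtain ⟨c, hc⟩ := scalar hV H hF hz h3
      refine ⟨c, Or.inl fun v => ?_⟩
      have h4 := hc v
      rw [mul_smul, inv_smul_eq_iff] at h4
      have h5 : (⟨x, hx⟩ : N) • c • v = c • (⟨x, hx⟩ : N) • v := map_smul x c v
      rw [h5] at h4
      exact h4
    · have hmk : (((⟨x, hx⟩ : N) * tau hF t : N) : N ⧸ Subgroup.center N) =
          ((⟨x, hx⟩ : N) : N ⧸ Subgroup.center N) * t := by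
        rw [QuotientGroup.mk_mul, tau_mk]
      rw [sm_mk, ← hmk] at h
      have h3 : ((⟨x, hx⟩ : N) * tau hF t)⁻¹ * cj hn g ⟨x, hx⟩ ∈ Subgroup.center N := QuotientGroup.eq.1 h.symm
      obtain ⟨c, hc⟩ := scalar hV H hF hz h3
      refine ⟨c, Or.inr fun v => ?_⟩
      have h4 := hc v
      rw [mul_smul, inv_smul_eq_iff] at h4
      have h5 : ((⟨x, hx⟩ : N) * tau hF t) • c • v = c • ((⟨x, hx⟩ : N) * tau hF t) • v :=
        map_smul ((⟨x, hx⟩ * tau hF t : N) : V ≃ₗ[ZMod 17] V) c v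
      rw [h5] at h4
      exact h4
  · rintro ⟨h1, h2⟩
    refine ⟨(six_one hn H hF ht g).2 h1, fun x hx => ?_⟩
    obtain ⟨a, rfl⟩ := QuotientGroup.mk_surjective x
    have hat := (mem_Pt hF t a).1 hx
    obtain ⟨c, hc | hc⟩ := h2 a a.2 ((hcom a).2 hat)
    · left
      rw [sm_mk]
      exact mk_eq_of_scalar hc
    · right
      have h3 : ((a * tau hF t : N) : N ⧸ Subgroup.center N) = (a : N ⧸ Subgroup.center N) * t := by
        rw [QuotientGroup.mk_mul, tau_mk]
      rw [sm_mk, ← h3]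
      exact mk_eq_of_scalar hc

theorem beta_two (hV : Nat.card V = 17 ^ 4) {G N : Subgroup (V ≃ₗ[ZMod 17] V)} (hN : N ≤ G)
    (hn : ∀ g ∈ G, ∀ x ∈ N, g * x * g⁻¹ ∈ N) (hG : ¬ 17 ∣ Nat.card G) {h m : ℕ} (hh : Half G h) (h2 : 2 ≤ h)
    (hm : m * h = Nat.card G) (hm' : m = 320 ∨ m = 960) (H : Sym 2 2 N V) (hF : Full 2 N)
    (hz : Nat.card (Subgroup.center N) = 4)
    (h1 : ∀ t ∈ N, t * t = 1 → t ≠ 1 → (∃ v, t v ≠ -v) →
      h = 2 * Nat.card (Rst G t) ∧ Nat.card (Lst G t) = 6 * Nat.card (Kst G N t)) : False := by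
  classical
  have hfin := H.fin
  have hnorm : (N.subgroupOf G).Normal := normal hn
  let act : MulDistribMulAction G (N ⧸ Subgroup.center N) := MulDistribMulAction.compHom _ ((qa N).comp (cj hn))
  have hsm : ∀ (g : G) (x : N ⧸ Subgroup.center N), g • x = sm hn g x := fun _ _ => rfl
  have hN64 : Nat.card N = 64 := by rw [H.card, hz]; norm_num
  -- the hypothesis for the representatives
  have h1' : ∀ t : N ⧸ Subgroup.center N, t ≠ 1 → h = 2 * Nat.card (Rst G (tau hF t)) ∧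
      Nat.card (Lst G (tau hF t)) = 6 * Nat.card (Kst G N (tau hF t)) := by
    intro t ht
    have hc := tau_notMem hF ht
    refine h1 (tau hF t) (tau hF t).2 (congrArg Subtype.val (tau_sq hF t)) ?_ ?_
    · intro h
      apply hc
      have : tau hF t = 1 := Subtype.ext h
      rw [this]
      exact Subgroup.one_mem _
    · by_contra hcon
      push Not at hcon
      apply hc
      apply central_of_scalar (c := -1)
      intro v
      rw [neg_one_smul]
      exact hcon v
  have hRcard : ∀ t : N ⧸ Subgroup.center N, Nat.card (Rt G hF t) = Nat.card (Rst G (tau hF t)) := by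
    intro t
    refine Nat.card_congr ?_
    exact
      { toFun := fun g => ⟨(g : G), (g : G).2, g.2⟩
        invFun := fun g => ⟨⟨g.1, g.2.1⟩, g.2.2⟩
        left_inv := fun g => rfl
        right_inv := fun g => rfl }
  have hmemM : ∀ (t : N ⧸ Subgroup.center N) (g : G), g ∈ N.subgroupOf G ⊔ Rt G hF t ↔
      ∃ y ∈ N.subgroupOf G, ∃ r ∈ Rt G hF t, y * r = g := fun t g => Subgroup.mem_sup_of_normal_left
  have hsmN : ∀ y ∈ N.subgroupOf G, ∀ x : N ⧸ Subgroup.center N, y • x = x := fun y hy x => sm_N hn hy H x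
  have hRact : ∀ t : N ⧸ Subgroup.center N, t ≠ 1 → ∀ r ∈ Rt G hF t, r • t = t ∧
      ∀ x ∈ Pt hF t, r • x = x ∨ r • x = x * t := by
    intro t ht r hr
    obtain ⟨h3, h4⟩ := Rt_act hn H hF ht hr
    refine ⟨?_, fun x hx => ?_⟩
    · have h5 : sm hn r ((tau hF t : N) : N ⧸ Subgroup.center N) = ((tau hF t : N) : N ⧸ Subgroup.center N) := by
        rw [sm_mk, h3]
      rw [tau_mk] at h5
      exact h5
    · obtain ⟨a, rfl⟩ := QuotientGroup.mk_surjective x
      rcases h4 a ((mem_Pt hF t a).1 hx) with h | h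
      · left; rw [hsm, sm_mk, h]
      · right; rw [hsm, sm_mk, h, QuotientGroup.mk_mul, tau_mk]
  have hact : ∀ t : N ⧸ Subgroup.center N, t ≠ 1 → ∀ g ∈ N.subgroupOf G ⊔ Rt G hF t, g • t = t ∧
      ∀ x ∈ Pt hF t, g • x = x ∨ g • x = x * t := by
    intro t ht g hg
    obtain ⟨y, hy, r, hr, rfl⟩ := (hmemM t g).1 hg
    obtain ⟨h3, h4⟩ := hRact t ht r hr
    refine ⟨by rw [mul_smul, h3, hsmN y hy], fun x hx => ?_⟩
    rw [mul_smul, hsmN y hy]
    exact h4 x hx
  have hcardM : ∀ t : N ⧸ Subgroup.center N, t ≠ 1 →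
      Nat.card (N.subgroupOf G ⊔ Rt G hF t : Subgroup G) = 16 * h := by
    intro t ht
    set N' := N.subgroupOf G with hN'
    set R := Rt G hF t with hR
    have e1 : Nat.card N' * N'.relIndex (N' ⊔ R) = Nat.card (N' ⊔ R : Subgroup G) := by
      have := Subgroup.relIndex_mul_relIndex (⊥ : Subgroup G) N' (N' ⊔ R) bot_le le_sup_left
      rwa [Subgroup.relIndex_bot_left, Subgroup.relIndex_bot_left] at this
    rw [Subgroup.relIndex_sup_left] at e1
    have e2 : Nat.card (N' ⊓ R : Subgroup G) * N'.relIndex R = Nat.card R := by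
      have := Subgroup.relIndex_mul_relIndex (⊥ : Subgroup G) (N' ⊓ R) R bot_le inf_le_right
      rwa [Subgroup.relIndex_bot_left, Subgroup.relIndex_bot_left, Subgroup.inf_relIndex_right] at this
    have e3 : Nat.card (N' ⊓ R : Subgroup G) = 2 := by
      have hτG : (tau hF t : V ≃ₗ[ZMod 17] V) ∈ G := hN (tau hF t).2
      have e4 : ((N' ⊓ R : Subgroup G) : Set G) = {1, ⟨tau hF t, hτG⟩} := by
        ext g
        constructor
        · rintro ⟨hg1, hg2⟩
          have e5 : (⟨g, hg1⟩ : N) = 1 ∨ (⟨g, hg1⟩ : N) = tau hF t :=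
            eq_of_fix H (tau_sq hF t) (tau_notMem hF ht) hg2
          rcases e5 with e5 | e5
          · left
            have e7 : (g : V ≃ₗ[ZMod 17] V) = 1 := congrArg (fun z : N => (z : V ≃ₗ[ZMod 17] V)) e5
            exact Subtype.ext e7
          · right
            have e7 : (g : V ≃ₗ[ZMod 17] V) = tau hF t := congrArg (fun z : N => (z : V ≃ₗ[ZMod 17] V)) e5
            exact Subtype.ext e7
        · rintro (rfl | rfl)
          · exact Subgroup.one_mem _
          · exact ⟨(tau hF t).2, fun v hv => hv⟩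
      have e6 : Nat.card (N' ⊓ R : Subgroup G) = ((N' ⊓ R : Subgroup G) : Set G).ncard := rfl
      rw [e6, e4, Set.ncard_pair]
      intro h3
      apply tau_notMem hF ht
      have h4 : tau hF t = 1 := Subtype.ext (congrArg Subtype.val h3).symm
      rw [h4]
      exact Subgroup.one_mem _
    have e4 : Nat.card N' = 64 := (card_N' hN).trans hN64
    have e5 := hRcard t
    have e6 := (h1' t ht).1
    rw [e3] at e2
    rw [e4] at e1
    rw [← hR] at e5
    omega
  have hcfg : Cfg (G := G) (fun t : N ⧸ Subgroup.center N => Pt hF t) (N.subgroupOf G)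
      (fun t => N.subgroupOf G ⊔ Rt G hF t) := by
    refine ⟨?_, ?_, ?_, ?_, ?_, ?_, ?_, ?_, ?_, ?_, ?_, ?_⟩
    · -- cardU
      have := Subgroup.card_eq_card_quotient_mul_card_subgroup (Subgroup.center N)
      rw [hz, hN64] at this
      omega
    · -- sq
      intro x
      obtain ⟨a, rfl⟩ := QuotientGroup.mk_surjective x
      rw [← QuotientGroup.mk_mul, ← pow_two]
      exact (QuotientGroup.eq_one_iff _).2 (H.exp a)
    · -- memP
      intro t _
      have := (mem_Pt hF t (tau hF t)).2 rfl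
      rwa [tau_mk] at this
    · -- idx
      intro t ht
      exact index_Pt H hF ht
    · -- mapP
      intro g t x _ hx
      obtain ⟨a, rfl⟩ := QuotientGroup.mk_surjective x
      have h3 := (mem_Pt hF t a).1 hx
      rw [hsm, hsm, sm_mk]
      refine (mem_Pt hF _ _).2 ?_
      have h4 : (cj hn g a) * (cj hn g (tau hF t)) = (cj hn g (tau hF t)) * (cj hn g a) := by
        rw [← map_mul, h3, map_mul]
      have h5 : ((cj hn g (tau hF t) : N) : N ⧸ Subgroup.center N) = (tau hF (sm hn g t) : N) := by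
        rw [tau_mk, ← sm_mk, tau_mk]
      exact (comm_of_mk (x := cj hn g a) h5.symm h4.symm).symm
    · -- le
      intro t _
      exact le_sup_left
    · -- ker
      intro t ht g hg hg1
      obtain ⟨y, hy, r, hr, rfl⟩ := (hmemM t g).1 hg
      have h3 : ∀ x : N ⧸ Subgroup.center N, sm hn r x = x := by
        intro x
        have h4 := hg1 x
        rw [mul_smul, hsmN y hy] at h4
        exact h4
      have h4 : (r : V ≃ₗ[ZMod 17] V) ∈ N := Rt_ker hn H hF ht hr h3
      exact (N.subgroupOf G).mul_mem hy h4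
    · -- act
      exact hact
    · -- card
      rcases hm' with rfl | rfl
      · left
        intro t ht
        rw [hcardM t ht, ← hm]
        ring
      · right
        intro t ht
        rw [hcardM t ht, ← hm]
        ring
    · -- three
      rw [card_N' hN, hN64]
      norm_num
    · -- norm
      intro t ht g hgt hg3 x hx
      have h3 := cj_three hn H hF ht hgt hg3
      obtain ⟨y, hy, r, hr, rfl⟩ := (hmemM t x).1 hx
      have h4 : g * (y * r) * g⁻¹ = (g * y * g⁻¹) * (g * r * g⁻¹) := by group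
      rw [h4]
      refine (hmemM t _).2 ⟨_, hnorm.conj_mem y hy g, _, ?_, rfl⟩
      intro v hv
      change (g : V ≃ₗ[ZMod 17] V) ((r : V ≃ₗ[ZMod 17] V) ((g : V ≃ₗ[ZMod 17] V)⁻¹ v)) = v
      have h5 : tau hF t • ((g : V ≃ₗ[ZMod 17] V)⁻¹ v) = (g : V ≃ₗ[ZMod 17] V)⁻¹ v := by
        have h6 : (cj hn g (tau hF t)) • v = v := by rw [h3, hv]
        have h7 : (g : V ≃ₗ[ZMod 17] V) (tau hF t • ((g : V ≃ₗ[ZMod 17] V)⁻¹ v)) = v := h6
        have h8 : (g : V ≃ₗ[ZMod 17] V)⁻¹ ((g : V ≃ₗ[ZMod 17] V) (tau hF t • ((g : V ≃ₗ[ZMod 17] V)⁻¹ v))) =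
            tau hF t • ((g : V ≃ₗ[ZMod 17] V)⁻¹ v) := by
          rw [← LinearEquiv.mul_apply, inv_mul_cancel]; rfl
        rw [← h8, h7]
      rw [hr _ h5]
      have h6 : (g : V ≃ₗ[ZMod 17] V) ((g : V ≃ₗ[ZMod 17] V)⁻¹ v) = v := by
        rw [← LinearEquiv.mul_apply, mul_inv_cancel]; rfl
      exact h6
    · -- six
      intro t ht
      have h3 : Nat.card {g : G // g • t = t} = Nat.card (Lst G (tau hF t)) := by
        refine Nat.card_congr ?_
        exact
          { toFun := fun g => ⟨(g.1 : V ≃ₗ[ZMod 17] V), (six_one hn H hF ht g.1).1 g.2⟩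
            invFun := fun g => ⟨⟨g.1, g.2.1⟩, (six_one hn H hF ht ⟨g.1, g.2.1⟩).2 g.2⟩
            left_inv := fun g => rfl
            right_inv := fun g => rfl }
      have h4 : Nat.card {g : G // g • t = t ∧ ∀ x ∈ Pt hF t, g • x = x ∨ g • x = x * t} =
          Nat.card (Kst G N (tau hF t)) := by
        refine Nat.card_congr ?_
        exact
          { toFun := fun g => ⟨(g.1 : V ≃ₗ[ZMod 17] V), (six_two hn hV H hF hz ht g.1).1 g.2⟩
            invFun := fun g => ⟨⟨g.1, g.2.1.1⟩, (six_two hn hV H hF hz ht ⟨g.1, g.2.1.1⟩).2 g.2⟩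
            left_inv := fun g => rfl
            right_inv := fun g => rfl }
      rw [h3, h4]
      exact (h1' t ht).2
  exact hcfg.false

end two

end Cfsg.Agent.H1.HT
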